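import Cfsg.Agent.Lib.TwoGroups.Semidihedral
import Cfsg.Agent.Lib.InvChar.CentralProductFactors

/-!
# Recognition of the central product of a quaternion and a dihedral group of order eight
-/

set_option autoImplicit false

open Subgroup

namespace CfsgLib.RankFourAltFive

theorem quaternion_center : ∀ u : QuaternionGroup 2, (∀ w, w * u = u * w) →
    u = 1 ∨ u = QuaternionGroup.a 2 := by decide +kernel

theorem dihedral_center : ∀ u : DihedralGroup 4, (∀ w, w * u = u * w) →
    u = 1 ∨ u = DihedralGroup.r 2 := by decide +kernel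

variable {P : Type*} [Group P] [Finite P]

/-- Five involutions with a common central commutator generate the central product. -/
theorem central_product_of_points (hP : Nat.card P = 32) (k : P) (hk1 : k ≠ 1) (hk2 : k * k = 1)
    (hkc : ∀ x, x * k = k * x) (v : Fin 5 → P) (hv : ∀ i, v i * v i = 1)
    (hvv : ∀ i l, i ≠ l → v i * v l = v l * v i * k) :
    ∃ A B : Subgroup P, Nonempty (A ≃* QuaternionGroup 2) ∧ Nonempty (B ≃* DihedralGroup 4) ∧
      (∀ a ∈ A, ∀ b ∈ B, a * b = b * a) ∧ A ⊔ B = ⊤ ∧ A ⊓ B = center P := by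
  set a := v 0 * v 1 with hadef
  set b := v 1 * v 2 with hbdef
  set c := v 3
  set d := v 4
  have hsw : ∀ i l, i ≠ l → ∀ x, v i * (v l * x) = v l * (v i * (k * x)) := fun i l h x => by
    rw [← mul_assoc, hvv i l h]; group
  have hkv : ∀ i x, k * (v i * x) = v i * (k * x) := fun i x => by rw [← mul_assoc, ← hkc, mul_assoc]
  have hkk : ∀ x, k * (k * x) = x := fun x => by rw [← mul_assoc, hk2, one_mul]
  have hvs : ∀ i x, v i * (v i * x) = x := fun i x => by rw [← mul_assoc, hv, one_mul]
  have hsq : ∀ i l, i ≠ l → v i * v l * (v i * v l) = k := fun i l h => by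
    calc v i * v l * (v i * v l) = v i * (v l * v i) * v l := by group
      _ = v i * (v i * v l * k) * v l := by rw [hvv l i h.symm]
      _ = (v i * v i) * (v l * (k * v l)) := by group
      _ = k := by rw [hv, one_mul, ← hkc (v l), ← mul_assoc, hv, one_mul]
  have haa : a * a = k := hsq 0 1 (by decide)
  have hbb : b * b = k := hsq 1 2 (by decide)
  have hba : b * a = k * (a * b) := by
    calc v 1 * v 2 * (v 0 * v 1) = v 1 * (v 2 * v 0) * v 1 := by group
      _ = v 1 * (v 0 * v 2 * k) * v 1 := by rw [hvv 2 0 (by decide)]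
      _ = v 1 * v 0 * (v 2 * (k * v 1)) := by group
      _ = (v 1 * v 0) * ((v 2 * v 1) * k) := by rw [← hkc (v 1)]; group
      _ = (v 0 * v 1 * k) * ((v 1 * v 2 * k) * k) := by rw [hvv 1 0 (by decide), hvv 2 1 (by decide)]
      _ = (v 0 * v 1 * k) * (v 1 * v 2) * (k * k) := by group
      _ = k * (v 0 * v 1 * (v 1 * v 2)) := by rw [hk2, mul_one, hkc (v 0 * v 1)]; group
  have hcd : d * c = k * (c * d) := by rw [show d * c = c * d * k from hvv 4 3 (by decide), hkc]
  have hcc : c * c = 1 := hv 3
  have hdd : d * d = 1 := hv 4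
  have hcomm : ∀ i l m : Fin 5, i ≠ m → l ≠ m → v i * v l * v m = v m * (v i * v l) := by
    intro i l m hi hl
    rw [mul_assoc, hvv l m hl, mul_assoc (v m), hsw i m hi, ← hkv, hkc]
    simp [hkv, hkk, mul_assoc]
  -- quaternion part
  have hu : a ^ (2 * 2) = 1 := by rw [pow_mul, pow_two a, haa, pow_two, hk2]
  have hv' : b * b = a ^ 2 := by rw [pow_two, haa, hbb]
  have hai : a⁻¹ = k * a := inv_eq_of_mul_eq_one_right (by rw [← mul_assoc, hkc, mul_assoc, haa, hk2])
  have hvu : b * a * b⁻¹ = a⁻¹ := by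
    rw [mul_inv_eq_iff_eq_mul, hba, hai, mul_assoc k a b]
  haveI : Fact (Nat.Prime 2) := ⟨Nat.prime_two⟩
  have hord : orderOf a = 2 * 2 := orderOf_eq_prime_pow (p := 2) (n := 1) (by
    rw [pow_one, pow_two, haa]; exact hk1) (by rw [pow_two 2]; exact hu)
  have hnot : b ∉ zpowers a := by
    intro h
    obtain ⟨i, hi⟩ := mem_zpowers_iff.1 h
    have : b * a = a * b := by rw [← hi]; exact ((Commute.refl a).zpow_left i).eq
    rw [hba] at this
    exact hk1 (mul_eq_right.1 this)
  let fA := CfsgLib.TwoGroups.SD.quaternionHom a b hu hv' hvu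
  have hfA : Function.Injective fA := CfsgLib.TwoGroups.SD.quaternionHom_injective a b hu hv' hvu hord hnot
  -- dihedral part
  set u := c * d with hudef
  have huu : u * u = k := by
    calc c * d * (c * d) = c * (d * c) * d := by group
      _ = c * (k * (c * d)) * d := by rw [hcd]
      _ = k * ((c * c) * (d * d)) := by rw [← mul_assoc c k, hkc]; group
      _ = k := by rw [hcc, hdd, one_mul, mul_one]
  have hu4 : u ^ 4 = 1 := by rw [show 4 = 2 * 2 from rfl, pow_mul, pow_two u, huu, pow_two, hk2]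
  have hcu : c * u * c⁻¹ = u⁻¹ := by
    rw [hudef, mul_inv_rev, inv_eq_of_mul_eq_one_right hcc, inv_eq_of_mul_eq_one_right hdd]
    calc c * (c * d) * c = (c * c) * (d * c) := by group
      _ = d * c := by rw [hcc, one_mul]
  have hordu : orderOf u = 4 := orderOf_eq_prime_pow (p := 2) (n := 1) (by
    rw [pow_one, pow_two, huu]; exact hk1) hu4
  have hnotu : c ∉ zpowers u := by
    intro h
    obtain ⟨i, hi⟩ := mem_zpowers_iff.1 h
    have h' : c * u = u * c := by rw [← hi]; exact ((Commute.refl u).zpow_left i).eq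
    rw [hudef, ← mul_assoc c c d, hcc, one_mul, mul_assoc, hcd, ← mul_assoc c k, hkc, mul_assoc,
      ← mul_assoc c c d, hcc, one_mul] at h'
    exact hk1 (mul_eq_right.1 h'.symm)
  let fB := CfsgLib.TwoGroups.SD.dihedralHom u c hu4 hcc hcu
  have hfB : Function.Injective fB := CfsgLib.TwoGroups.SD.dihedralHom_injective u c hu4 hcc hcu hordu hnotu
  have hAr : fA.range = closure {a, b} := CfsgLib.TwoGroups.SD.range_quaternionHom a b hu hv' hvu
  have hBr : fB.range = closure {u, c} := CfsgLib.TwoGroups.SD.range_dihedralHom u c hu4 hcc hcu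
  have hgen : ∀ x ∈ ({a, b} : Set P), ∀ y ∈ ({u, c} : Set P), x * y = y * x := by
    have ha3 : a * c = c * a := hcomm 0 1 3 (by decide) (by decide)
    have hb3 : b * c = c * b := hcomm 1 2 3 (by decide) (by decide)
    have ha4 : a * d = d * a := hcomm 0 1 4 (by decide) (by decide)
    have hb4 : b * d = d * b := hcomm 1 2 4 (by decide) (by decide)
    rintro x (rfl | rfl) y (rfl | rfl)
    · exact (Commute.mul_right (show Commute a c from ha3) ha4).eq
    · exact ha3
    · exact (Commute.mul_right (show Commute b c from hb3) hb4).eq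
    · exact hb3
  have hC : ∀ x ∈ fA.range, ∀ y ∈ fB.range, x * y = y * x := by
    have h1 : ({a, b} : Set P) ⊆ (centralizer ({u, c} : Set P) : Set P) := fun x hx =>
      mem_centralizer_iff.2 fun y hy => (hgen x hx y hy).symm
    have h2 : closure {u, c} ≤ centralizer ((closure {a, b} : Subgroup P) : Set P) :=
      (closure_le _).2 fun y hy => mem_centralizer_iff.2 fun x hx =>
        (mem_centralizer_iff.1 ((closure_le _).2 h1 hx) y hy).symm
    intro x hx y hy
    exact mem_centralizer_iff.1 (h2 (hBr ▸ hy)) x (hAr ▸ hx)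
  have hA8 : Nat.card fA.range = 8 := by
    rw [← Nat.card_congr (MonoidHom.ofInjective hfA).toEquiv, Nat.card_eq_fintype_card, QuaternionGroup.card]
  have hB8 : Nat.card fB.range = 8 := by
    rw [← Nat.card_congr (MonoidHom.ofInjective hfB).toEquiv, DihedralGroup.nat_card]
  have hzA : fA (QuaternionGroup.a 2) = k := by
    rw [show QuaternionGroup.a (2 : ZMod (2 * 2)) = QuaternionGroup.a (1 : ZMod (2 * 2)) * QuaternionGroup.a 1 by decide, map_mul]
    have h1 : fA (QuaternionGroup.a 1) = a := by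
      show a ^ ((1 : ZMod (2 * 2)).cast : ℤ) = a
      rw [show ((1 : ZMod (2 * 2)).cast : ℤ) = 1 from rfl, zpow_one]
    rw [h1, haa]
  have hzB : fB (DihedralGroup.r 2) = k := by
    rw [show DihedralGroup.r (2 : ZMod 4) = DihedralGroup.r (1 : ZMod 4) * DihedralGroup.r 1 by decide, map_mul]
    have h1 : fB (DihedralGroup.r 1) = u := by
      show u ^ ((1 : ZMod 4).cast : ℤ) = u
      rw [show ((1 : ZMod 4).cast : ℤ) = 1 from rfl, zpow_one]
    rw [h1, huu]
  have hcenA : ∀ x ∈ fA.range, (∀ y ∈ fA.range, y * x = x * y) → x = 1 ∨ x = k := by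
    rintro _ ⟨q, rfl⟩ h
    rcases quaternion_center q (fun w => hfA (by rw [map_mul, map_mul, h _ ⟨w, rfl⟩])) with rfl | rfl
    · exact Or.inl (map_one _)
    · exact Or.inr hzA
  have hcenB : ∀ x ∈ fB.range, (∀ y ∈ fB.range, y * x = x * y) → x = 1 ∨ x = k := by
    rintro _ ⟨q, rfl⟩ h
    rcases dihedral_center q (fun w => hfB (by rw [map_mul, map_mul, h _ ⟨w, rfl⟩])) with rfl | rfl
    · exact Or.inl (map_one _)
    · exact Or.inr hzB
  have hinf : ∀ x, x ∈ fA.range ⊓ fB.range → x = 1 ∨ x = k := fun x hx =>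
    hcenA x hx.1 fun y hy => hC y hy x hx.2
  have hk4 : k ∈ fA.range ⊓ fB.range := ⟨⟨_, hzA⟩, ⟨_, hzB⟩⟩
  have hinfc : Nat.card ↥(fA.range ⊓ fB.range) ≤ 2 := by
    refine le_trans (le_of_eq (Nat.card_coe_set_eq _)) ((Set.ncard_le_ncard (t := ({1, k} : Set P)) ?_ (Set.toFinite _)).trans ?_)
    · intro x hx
      exact hinf x hx
    · rw [Set.ncard_pair hk1.symm]
  have hsup : fA.range ⊔ fB.range = ⊤ := by
    refine eq_top_of_card_eq _ (le_antisymm (card_le_card_group _) ?_)
    have h1 := relIndex_mul_relIndex (⊥ : Subgroup P) (fA.range ⊓ fB.range) fA.range bot_le inf_le_left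
    rw [relIndex_bot_left, relIndex_bot_left, inf_relIndex_left, hA8] at h1
    have h2 := relIndex_mul_relIndex (⊥ : Subgroup P) fB.range (fA.range ⊔ fB.range) bot_le le_sup_right
    rw [relIndex_bot_left, relIndex_bot_left, hB8] at h2
    have h3 : fB.range.relIndex fA.range ≤ fB.range.relIndex (fA.range ⊔ fB.range) :=
      relIndex_le_of_le_right le_sup_left FiniteIndex.index_ne_zero
    have h4 : 4 ≤ fB.range.relIndex fA.range := by nlinarith
    rw [hP, ← h2]
    omega
  refine ⟨fA.range, fB.range, ⟨(MonoidHom.ofInjective hfA).symm⟩, ⟨(MonoidHom.ofInjective hfB).symm⟩, hC,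
    hsup, le_antisymm (fun x hx => ?_) fun x hx => ?_⟩
  · rcases hinf x hx with rfl | rfl
    · exact one_mem _
    · exact mem_center_iff.2 hkc
  · obtain ⟨y, hy, z, hz, rfl⟩ := CfsgLib.SylowDecomp.exists_eq_mul (hc := hC) hsup x
    have hy' : y = 1 ∨ y = k := hcenA y hy fun w hw => by
      have h := mem_center_iff.1 hx w
      calc w * y = w * (y * z) * z⁻¹ := by group
        _ = y * (z * w) * z⁻¹ := by rw [h]; group
        _ = y * (w * z) * z⁻¹ := by rw [hC w hw z hz]
        _ = y * w := by group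
    have hz' : z = 1 ∨ z = k := hcenB z hz fun w hw => by
      have h := mem_center_iff.1 hx w
      calc w * z = y⁻¹ * ((y * w) * z) := by group
        _ = y⁻¹ * (w * (y * z)) := by rw [hC y hy w hw]; group
        _ = y⁻¹ * ((y * z) * w) := by rw [h]
        _ = z * w := by group
    refine mul_mem ?_ ?_
    · rcases hy' with rfl | rfl; exacts [one_mem _, hk4]
    · rcases hz' with rfl | rfl; exacts [one_mem _, hk4]

end CfsgLib.RankFourAltFive
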