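import Mathlib

/-!
# Finite facts about the alternating group of degree five
-/

set_option autoImplicit false

namespace CfsgLib.RankFourAltFive

local notation "A₅" => alternatingGroup (Fin 5)

/-- A nontrivial element of order three outside a point stabiliser, together with an element of
order two of the stabiliser, gives an element of order five. -/
theorem exists_five_of_three (i : Fin 5) (d : A₅) (hd : d ^ 3 = 1) (hdi : (d : Equiv.Perm (Fin 5)) i ≠ i) :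
    ∃ t : A₅, t ^ 2 = 1 ∧ (t : Equiv.Perm (Fin 5)) i = i ∧ (t * d) ^ 5 = 1 ∧ t * d ≠ 1 := by
  revert i d
  decide +kernel

theorem exists_pair_data (i j : Fin 5) (h : i ≠ j) :
    ∃ d s : A₅, d ^ 3 = 1 ∧ d ≠ 1 ∧ (d : Equiv.Perm (Fin 5)) i = i ∧ (d : Equiv.Perm (Fin 5)) j = j ∧
      (s : Equiv.Perm (Fin 5)) i = j ∧ (s : Equiv.Perm (Fin 5)) j = i ∧ s * d = d⁻¹ * s := by
  revert i j
  decide +kernel

theorem conj_three (d e : A₅) (hd : d ^ 3 = 1) (hd1 : d ≠ 1) (he : e ^ 3 = 1) (he1 : e ≠ 1) :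
    ∃ g : A₅, g * d = e * g ∨ g * d⁻¹ = e * g := by
  revert d e
  decide +kernel

theorem exists_three_pair :
    ∃ d e : A₅, d ^ 3 = 1 ∧ d ≠ 1 ∧ e ^ 3 = 1 ∧ e ≠ 1 ∧ d * e ≠ e * d ∧ (d * e) ^ 3 = 1 ∧ d * e ≠ 1 := by
  decide +kernel

theorem exists_five_of_three' (d : A₅) (hd : d ^ 3 = 1) (hd1 : d ≠ 1) :
    ∃ d' : A₅, d' ^ 3 = 1 ∧ d' ≠ 1 ∧ (d * d') ^ 5 = 1 ∧ d * d' ≠ 1 := by
  revert d
  decide +kernel

theorem order_cases (g : A₅) : g ^ 2 = 1 ∨ g ^ 3 = 1 ∨ g ^ 5 = 1 := by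
  revert g
  decide +kernel

theorem exists_pair_map (i j k l : Fin 5) (h : i ≠ j) (h' : k ≠ l) :
    ∃ g : A₅, (g : Equiv.Perm (Fin 5)) i = k ∧ (g : Equiv.Perm (Fin 5)) j = l := by
  revert i j k l
  decide +kernel

theorem exists_inverting (g : A₅) (hg : g ^ 5 = 1) (hg1 : g ≠ 1) :
    ∃ s : A₅, s ^ 2 = 1 ∧ s ≠ 1 ∧ (s * g) ^ 2 = 1 ∧ s * g ≠ 1 := by
  revert g
  decide +kernel

end CfsgLib.RankFourAltFive
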