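import Mathlib

/-!
# Point stabilisers in the alternating group of degree five
-/

set_option autoImplicit false
set_option synthInstance.maxSize 512
set_option synthInstance.maxHeartbeats 200000

namespace CfsgLib.RankFourAltFive

local notation "A₅" => alternatingGroup (Fin 5)

theorem stab_eq_four_mul_three (i : Fin 5) (d g : A₅) (hd : d ^ 3 = 1) (hd1 : d ≠ 1)
    (hdi : (d : Equiv.Perm (Fin 5)) i = i) (hgi : (g : Equiv.Perm (Fin 5)) i = i) :
    (g * d) ^ 2 = 1 ∨ (g * d ^ 2) ^ 2 = 1 ∨ g ^ 2 = 1 := by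
  revert i d g
  decide +kernel

theorem four_mul (i : Fin 5) (a b : A₅) (ha : a ^ 2 = 1) (hai : (a : Equiv.Perm (Fin 5)) i = i)
    (hb : b ^ 2 = 1) (hbi : (b : Equiv.Perm (Fin 5)) i = i) : (a * b) ^ 2 = 1 := by
  revert i a b
  decide +kernel

theorem exists_three_moving (i j : Fin 5) (h : i ≠ j) :
    ∃ d : A₅, d ^ 3 = 1 ∧ (d : Equiv.Perm (Fin 5)) j = j ∧ (d : Equiv.Perm (Fin 5)) i ≠ i := by
  revert i j
  decide +kernel

end CfsgLib.RankFourAltFive
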