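import Mathlib

/-!
# Pairs of involutions of the alternating group of degree five
-/

set_option autoImplicit false

namespace CfsgLib.RankFourAltFive

local notation "A₅" => alternatingGroup (Fin 5)

theorem exists_involution_five (s : A₅) (hs : s ^ 2 = 1) (hs1 : s ≠ 1) :
    ∃ t : A₅, t ^ 2 = 1 ∧ t ≠ 1 ∧ (s * t) ^ 5 = 1 ∧ s * t ≠ 1 := by
  revert s
  decide +kernel

theorem exists_involution : ∃ s : A₅, s ^ 2 = 1 ∧ s ≠ 1 := by
  decide +kernel

theorem exists_five : ∃ s : A₅, s ^ 5 = 1 ∧ s ≠ 1 := by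
  decide +kernel

end CfsgLib.RankFourAltFive
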