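import Cfsg.Agent.Lib.InvChar.RankFourAltFive.Squares

/-!
# A layer of order sixteen yields a large elementary section
-/

set_option autoImplicit false
set_option linter.style.haveILetI false

open Subgroup

universe u

namespace CfsgLib.RankFourAltFive

local notation "A₅" => alternatingGroup (Fin 5)

section Fix

variable {V : Type*} [CommGroup V] [Finite V] (hcard : Nat.card V = 16) (h2 : ∀ v : V, v * v = 1)
variable (ρ : A₅ →* MulAut V) (hρ : ρ ≠ 1)

include hcard h2 hρ

/-- The fixed points of an involution form a four-group, consisting of norms. -/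
theorem fixed_involution {s : A₅} (hs : s ^ 2 = 1) (hs1 : s ≠ 1) :
    Nat.card (fixed (ρ s)) = 4 ∧ ∀ v ∈ fixed (ρ s), ∃ a, a * ρ s a = v := by
  have main : ∀ t : A₅, t ^ 2 = 1 →
      ∃ N : V →* V, N.range ≤ fixed (ρ t) ∧ Nat.card (fixed (ρ t)) * Nat.card N.range = 16 ∧
        (∀ a, N a = a * ρ t a) := by
    intro t ht
    let N : V →* V := MonoidHom.id V * (ρ t).toMonoidHom
    have hN : ∀ a, N a = a * ρ t a := fun a => rfl
    have hker : N.ker = fixed (ρ t) := by
      ext v
      rw [MonoidHom.mem_ker, hN, mem_fixed, mul_eq_one_iff_inv_eq, inv_eq_of_mul_eq_one_right (h2 v),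
        eq_comm]
    refine ⟨N, ?_, ?_, hN⟩
    · rintro _ ⟨a, rfl⟩
      rw [mem_fixed, hN, map_mul, ← MulAut.mul_apply, ← map_mul, ← pow_two, ht, map_one,
        MulAut.one_apply, mul_comm]
    · rw [← hker, ← index_ker, card_mul_index, hcard]
  obtain ⟨t, ht, ht1, h5, h51⟩ := exists_involution_five s hs hs1
  obtain ⟨N, hNle, hNcard, hN⟩ := main s hs
  obtain ⟨N', hNle', hNcard', -⟩ := main t ht
  have hdisj : Disjoint (fixed (ρ s)) (fixed (ρ t)) := disjoint_iff.2 (fix_two_three hcard ρ hρ h5 h51)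
  have hle : Nat.card (fixed (ρ s)) * Nat.card (fixed (ρ t)) ≤ 16 := by
    rw [← Nat.card_prod, ← hcard]
    exact Nat.card_le_card_of_injective _ (mul_injective_of_disjoint hdisj)
  have h4 : ∀ {a b : ℕ}, (a = 1 ∨ a = 2 ∨ a = 4 ∨ a = 8 ∨ a = 16) → b ≤ a → a * b = 16 → 4 ≤ a := by
    intro a b ha hb hab
    rcases ha with rfl | rfl | rfl | rfl | rfl <;> omega
  have hs4 := h4 (card_dvd_sixteen hcard _) (card_le_of_le hNle) hNcard
  have ht4 := h4 (card_dvd_sixteen hcard _) (card_le_of_le hNle') hNcard'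
  have hs' : Nat.card (fixed (ρ s)) = 4 := by nlinarith
  refine ⟨hs', fun v hv => ?_⟩
  have heq : N.range = fixed (ρ s) := eq_of_le_of_card_ge hNle (by rw [hs'] at hNcard ⊢; omega)
  obtain ⟨a, ha⟩ := heq ▸ hv
  exact ⟨a, (hN a) ▸ ha⟩

end Fix

variable {G : Type u} [Group G] [Finite G] {π : G →* A₅} {W : Subgroup G}

/-- A central elementary layer of order sixteen with a nontrivial action is incompatible with the bound on sections. -/
theorem CentralLayer.faithful_case (L : CentralLayer π W) (hW : Nat.card W = 16)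
    (hmove : ∃ g, ∃ w ∈ W, g * w ≠ w * g) (hsec : SecLE G) : False := by
  obtain ⟨V, iV, iF, ρ, p, U, iU, iFU, σ, j, q, hp, hp1, h2, hcard, hρ, heq, hj, hjW, hUc, hσj, hU2, hq,
    hpol, hbil, hqe⟩ := L.exists_square_map
  have hUcard : Nat.card U = 16 := hUc.trans hW
  have hσ : σ ≠ 1 := by
    intro h
    obtain ⟨g, w, hw, hne⟩ := hmove
    obtain ⟨u, rfl⟩ := (hjW w).1 hw
    have := hσj g u
    rw [h, MonoidHom.one_apply, MulAut.one_apply, eq_mul_inv_iff_mul_eq] at this
    exact hne this.symm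
  -- preimages of subgroups of the module
  let lift : Subgroup V → Subgroup G := fun S => (S.comap p).map π.ker.subtype
  have hlift : ∀ (S : Subgroup V) (m : π.ker), p m ∈ S → (m : G) ∈ lift S := fun S m h => ⟨m, h, rfl⟩
  have hWlift : ∀ S : Subgroup V, W ≤ lift S := fun S x hx =>
    hlift S ⟨x, L.le hx⟩ (by rw [(hp1 _).2 hx]; exact one_mem S)
  have hrel : ∀ S : Subgroup V, W.relIndex (lift S) = Nat.card S := by
    intro S
    have e : W = ((⊥ : Subgroup V).comap p).map π.ker.subtype := by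
      ext x
      refine ⟨fun hx => ⟨⟨x, L.le hx⟩, mem_bot.2 ((hp1 _).2 hx), rfl⟩, ?_⟩
      rintro ⟨m, hm, rfl⟩
      exact (hp1 m).1 (mem_bot.1 hm)
    conv_lhs => rw [e]
    rw [relIndex_map_map_of_injective _ _ Subtype.val_injective, relIndex_comap,
      map_comap_eq_self_of_surjective hp, relIndex_bot_left]
  have hcardlift : ∀ S : Subgroup V, Nat.card (lift S) = 16 * Nat.card S := by
    intro S
    have h := relIndex_mul_relIndex (⊥ : Subgroup G) W (lift S) bot_le (hWlift S)
    rw [relIndex_bot_left, relIndex_bot_left, hW, hrel] at h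
    exact h.symm
  have hbound : ∀ (S : Subgroup V) (K : Subgroup G), K ≤ W → (∀ v ∈ S, j (q v) ∈ K) →
      Nat.card S ≤ Nat.card K := by
    intro S K hK hS
    have hKl := hK.trans (hWlift S)
    have hle := hsec (lift S) K hKl (by
      rintro _ ⟨m, hm, rfl⟩
      show (m : G) * m ∈ K
      rw [← hq]
      exact hS _ hm)
    have h := relIndex_mul_relIndex (⊥ : Subgroup G) K (lift S) bot_le hKl
    rw [relIndex_bot_left, relIndex_bot_left, hcardlift] at h
    nlinarith
  have han : ∀ v, q v = 1 → v = 1 := by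
    intro v hv
    by_contra hv1
    have := hbound (pair v (h2 v)) ⊥ bot_le (by
      rintro x (rfl | rfl)
      · rw [map_one_eq hU2 q hbil, map_one]; exact one_mem _
      · rw [hv, map_one]; exact one_mem _)
    rw [card_pair hv1, card_bot] at this
    omega
  rcases four_target hcard h2 ρ hρ hU2 q hbil hUcard σ hσ hqe han with hpolar | ⟨a, b, ha, hb, hab, hqb, hqab⟩
  swap
  · have hw2 : j (q a) * j (q a) = 1 := by rw [← map_mul, hU2, map_one]
    have hS := hbound (pair a (h2 a) ⊔ pair b (h2 b)) (pair (j (q a)) hw2)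
      (fun x hx => by
        rcases hx with rfl | rfl
        · exact one_mem _
        · exact (hjW _).2 ⟨_, rfl⟩)
      (by
        intro v hv
        obtain ⟨x, hx, y, hy, rfl⟩ := mem_sup.1 hv
        rcases hx with rfl | rfl <;> rcases hy with rfl | rfl
        · rw [one_mul, map_one_eq hU2 q hbil, map_one]; exact one_mem _
        · rw [one_mul, hqb]; exact Or.inr rfl
        · rw [mul_one]; exact Or.inr rfl
        · rw [hqab]; exact Or.inr rfl)
    have hKc : Nat.card (pair (j (q a)) hw2) ≤ 2 := card_pair_le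
    have hdis : Disjoint (pair a (h2 a)) (pair b (h2 b)) := by
      rw [disjoint_def]
      rintro x (rfl | rfl) (h | h)
      · rfl
      · rfl
      · exact h
      · exact absurd h hab
    have hle : Nat.card (pair a (h2 a)) * Nat.card (pair b (h2 b)) ≤
        Nat.card ↥(pair a (h2 a) ⊔ pair b (h2 b)) := by
      rw [← Nat.card_prod]
      exact Nat.card_le_card_of_injective (fun x => (⟨x.1 * x.2, mul_mem_sup x.1.2 x.2.2⟩ : ↥(pair a (h2 a) ⊔ pair b (h2 b))))
        fun x y h => mul_injective_of_disjoint hdis (congrArg Subtype.val h)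
    rw [card_pair ha, card_pair hb] at hle
    omega
  -- now the kernel is abelian
  have hab : ∀ a b : π.ker, (a : G) * b = (b : G) * a := by
    intro a b
    have h := hpol a b
    rw [hpolar, map_one] at h
    calc (a : G) * b = (b : G) * a * ((a : G)⁻¹ * (b : G)⁻¹ * a * b) := by group
      _ = (b : G) * a := by rw [← h, mul_one]
  obtain ⟨s, hs, hs1⟩ := exists_involution
  obtain ⟨hfix, hnorm⟩ := fixed_involution hcard h2 ρ hρ hs hs1
  obtain ⟨hfixU, -⟩ := fixed_involution hUcard hU2 σ hσ hs hs1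
  obtain ⟨x, hx⟩ := L.surj s
  have hxx : x * x ∈ π.ker := by rw [MonoidHom.mem_ker, map_mul, hx, ← pow_two, hs]
  let c : π.ker → π.ker := fun m => MulAut.conjNormal x m
  have hc : ∀ m : π.ker, (c m : G) = x * m * x⁻¹ := fun m => MulAut.conjNormal_apply x m
  have hcc : ∀ m : π.ker, x * (x * (m : G) * x⁻¹) * x⁻¹ = m := fun m => by
    calc x * (x * (m : G) * x⁻¹) * x⁻¹ = (x * x) * m * (x * x)⁻¹ := by group
      _ = m := by rw [hab ⟨x * x, hxx⟩ m, mul_inv_cancel_right]
  have hpc : ∀ m, p (c m) = ρ s (p m) := fun m => by rw [← hx]; exact (heq x m).symm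
  let X : π.ker := ⟨x * x, hxx⟩
  have hXfix : p X ∈ fixed (ρ s) := by
    rw [mem_fixed, ← hpc]
    exact congrArg p (Subtype.ext (by rw [hc]; show x * (x * x) * x⁻¹ = x * x; group))
  obtain ⟨v, hv⟩ := hnorm _ hXfix
  obtain ⟨a, rfl⟩ := hp v
  let x' : G := x * (a : G)⁻¹
  let w : π.ker := X * (c a)⁻¹ * a⁻¹
  have hwW : (w : G) ∈ W := (hp1 w).1 (by
    rw [map_mul, map_mul, map_inv, map_inv, hpc, ← hv, mul_assoc, ← mul_inv_rev, mul_inv_cancel])
  have hx'sq : x' * x' = (w : G) := by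
    show x * (a : G)⁻¹ * (x * (a : G)⁻¹) = x * x * (c a : G)⁻¹ * (a : G)⁻¹
    have h1 : x * x * (c a : G)⁻¹ = (c a : G)⁻¹ * (x * x) := hab X (c a)⁻¹
    rw [h1, hc]
    group
  let K : Subgroup G := (fixed (σ s)).map j
  have hKW : K ≤ W := by
    rintro _ ⟨u, -, rfl⟩
    exact (hjW _).2 ⟨u, rfl⟩
  have hKmem : ∀ y ∈ W, x * y * x⁻¹ = y → y ∈ K := by
    intro y hy hfixy
    obtain ⟨u, rfl⟩ := (hjW y).1 hy
    refine ⟨u, mem_fixed.2 (hj ?_), rfl⟩
    rw [← hx, hσj, hfixy]
  have hwK : (w : G) ∈ K := by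
    refine hKmem _ hwW ?_
    have e : (w : G) = x * x * (x * (a : G) * x⁻¹)⁻¹ * (a : G)⁻¹ := by rw [← hc]; rfl
    have h1 : (x * (a : G) * x⁻¹)⁻¹ * (a : G)⁻¹ = (a : G)⁻¹ * (x * (a : G) * x⁻¹)⁻¹ := by
      rw [← hc]; exact hab (c a)⁻¹ a⁻¹
    rw [e]
    calc x * (x * x * (x * (a : G) * x⁻¹)⁻¹ * (a : G)⁻¹) * x⁻¹
        = x * x * (x * (x * (a : G) * x⁻¹) * x⁻¹)⁻¹ * (x * (a : G) * x⁻¹)⁻¹ := by simp only [mul_inv_rev, inv_inv, mul_assoc, inv_mul_cancel_left, mul_inv_cancel_left, mul_inv_cancel, inv_mul_cancel, mul_one, one_mul]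
      _ = x * x * ((a : G)⁻¹ * (x * (a : G) * x⁻¹)⁻¹) := by rw [hcc]; group
      _ = x * x * (x * (a : G) * x⁻¹)⁻¹ * (a : G)⁻¹ := by rw [← h1]; group
  let S := fixed (ρ s)
  have hlin : ∀ m : π.ker, p m ∈ S → (c m : G) ∈ lift S ∧ (c m : G) * m ∈ K ∧ (m : G) * m ∈ K := by
    intro m hm
    have hpm : p (c m) = p m := by rw [hpc]; exact hm
    refine ⟨hlift S (c m) (by rw [hpm]; exact hm), ?_, ?_⟩
    · refine hKmem _ ?_ ?_
      · exact (hp1 (c m * m)).1 (by rw [map_mul, hpm, h2])
      · calc x * ((c m : G) * m) * x⁻¹ = x * (c m : G) * x⁻¹ * (x * (m : G) * x⁻¹) := by group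
          _ = (c m : G) * m := by rw [hc, hcc]; exact hab m (c m) |>.trans (by rw [hc]) |> fun h => by rw [← hc] at h ⊢; exact h
    · refine hKmem _ (L.sq_mem _ m.2) ?_
      rw [← hq, ← hσj, hx, ← hqe, show ρ s (p m) = p m from hm]
  have hx'c : ∀ m : π.ker, x' * (m : G) * x'⁻¹ = c m := fun m => by
    show x * (a : G)⁻¹ * m * (x * (a : G)⁻¹)⁻¹ = _
    rw [hc, mul_assoc x, show (a : G)⁻¹ * m = m * (a : G)⁻¹ from hab a⁻¹ m]
    group
  let H : Subgroup G :=
    { carrier := {g | g ∈ lift S ∨ x'⁻¹ * g ∈ lift S}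
      one_mem' := Or.inl (one_mem _)
      mul_mem' := by
        intro g h hg hh
        have hnorm' : ∀ y ∈ lift S, x' * y * x'⁻¹ ∈ lift S ∧ x'⁻¹ * y * x' ∈ lift S := by
          rintro _ ⟨m, hm, rfl⟩
          refine ⟨?_, ?_⟩
          · show x' * (m : G) * x'⁻¹ ∈ _
            rw [hx'c]; exact (hlin m hm).1
          · have h1 : x' * x' * (m : G) * (x' * x')⁻¹ = m := by
              rw [hx'sq, hab w m, mul_inv_cancel_right]
            show x'⁻¹ * (m : G) * x' ∈ _
            rw [show x'⁻¹ * (m : G) * x' = x' * m * x'⁻¹ from by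
              conv_lhs => rw [← h1]
              group, hx'c]
            exact (hlin m hm).1
        rcases hg with hg | hg <;> rcases hh with hh | hh
        · exact Or.inl (mul_mem hg hh)
        · refine Or.inr ?_
          rw [show x'⁻¹ * (g * h) = (x'⁻¹ * g * x') * (x'⁻¹ * h) by group]
          exact mul_mem (hnorm' g hg).2 hh
        · exact Or.inr (by rw [← mul_assoc]; exact mul_mem hg hh)
        · refine Or.inl ?_
          rw [show g * h = (x' * (x'⁻¹ * g) * x'⁻¹) * (x' * x') * (x'⁻¹ * h) by group, hx'sq]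
          exact mul_mem (mul_mem (hnorm' _ hg).1 (hWlift S hwW)) hh
      inv_mem' := by
        intro g hg
        rcases hg with hg | hg
        · exact Or.inl (inv_mem hg)
        · refine Or.inr ?_
          obtain ⟨m, hm, e⟩ := inv_mem hg
          rw [show x'⁻¹ * g⁻¹ = x'⁻¹ * (x'⁻¹ * g)⁻¹ * x' * (x' * x')⁻¹ by group, hx'sq, ← e]
          refine mul_mem ?_ (inv_mem (hWlift S hwW))
          have h1 : x' * x' * (m : G) * (x' * x')⁻¹ = m := by
            rw [hx'sq, hab w m, mul_inv_cancel_right]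
          show x'⁻¹ * (m : G) * x' ∈ _
          rw [show x'⁻¹ * (m : G) * x' = x' * m * x'⁻¹ from by
            conv_lhs => rw [← h1]
            group, hx'c]
          exact (hlin m hm).1 }
  have hle : lift S ≤ H := fun g hg => Or.inl hg
  have hbound' := hsec H K ((hKW.trans (hWlift S)).trans hle) (by
    intro g hg
    rcases hg with hg | hg
    · obtain ⟨m, hm, rfl⟩ := hg
      exact (hlin m hm).2.2
    · obtain ⟨m, hm, e⟩ := hg
      have e' : (m : G) = x'⁻¹ * g := e
      rw [show g * g = (x' * (x'⁻¹ * g) * x'⁻¹) * (x' * x') * (x'⁻¹ * g) by group, hx'sq, ← e', hx'c,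
        mul_assoc (c m : G), hab w m, ← mul_assoc]
      exact mul_mem (hlin m hm).2.1 hwK)
  have hK4 : Nat.card K = 4 := (card_map_of_injective hj).trans hfixU
  have h := relIndex_mul_relIndex (⊥ : Subgroup G) K H bot_le ((hKW.trans (hWlift S)).trans hle)
  rw [relIndex_bot_left, relIndex_bot_left, hK4] at h
  have hL : Nat.card (lift S) = 64 := by rw [hcardlift, hfix]
  have heqH := eq_of_le_of_card_ge hle (by omega)
  have hxH : x' ∈ lift S := heqH ▸ (Or.inr (by rw [inv_mul_cancel]; exact one_mem _) : x' ∈ H)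
  have hxker : π x' = 1 := MonoidHom.mem_ker.1 (map_subtype_le _ hxH)
  rw [map_mul, map_inv, MonoidHom.mem_ker.1 a.2, inv_one, mul_one, hx] at hxker
  exact hs1 hxker

end CfsgLib.RankFourAltFive
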