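import Cfsg.Agent.Lib.InvChar.RankFourAltFive.Modules

/-!
# Equivariant quadratic maps
-/

set_option autoImplicit false
set_option linter.style.haveILetI false
set_option linter.unusedSectionVars false

open Subgroup

namespace CfsgLib.RankFourAltFive

local notation "A₅" => alternatingGroup (Fin 5)

section Quad

variable {V : Type*} [CommGroup V] [Finite V] (hcard : Nat.card V = 16) (h2 : ∀ v : V, v * v = 1)
variable (ρ : A₅ →* MulAut V) (hρ : ρ ≠ 1)
variable {W : Type*} [CommGroup W] (hW2 : ∀ w : W, w * w = 1) (q : V → W)

/-- The polar map. -/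
def polar (a b : V) : W := q (a * b) * q a * q b

theorem polar_comm (a b : V) : polar q a b = polar q b a := by
  unfold polar
  rw [mul_comm a b, mul_right_comm]

variable (hbil : ∀ a b c : V, polar q (a * b) c = polar q a c * polar q b c)

include hbil in
theorem polar_one_left (c : V) : polar q 1 c = 1 := by
  have h := hbil 1 1 c
  rw [one_mul] at h
  exact (left_eq_mul.1 h)

include hbil hW2 in
theorem map_one_eq : q 1 = 1 := by
  have h := polar_one_left q hbil (1 : V)
  unfold polar at h
  rw [one_mul, mul_assoc, hW2, mul_one] at h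
  exact h

include hbil hW2 h2 in
theorem polar_self (a : V) : polar q a a = 1 := by
  unfold polar
  rw [h2, map_one_eq hW2 q hbil, one_mul, hW2]

include hbil hW2 in
theorem map_mul_eq (a b : V) : q (a * b) = q a * q b * polar q a b := by
  unfold polar
  rw [mul_comm (q (a * b) * q a), ← mul_assoc, mul_assoc (q a) (q b) (q b), hW2, mul_one,
    mul_comm (q (a * b)), ← mul_assoc, hW2, one_mul]

include hcard hρ h2 in
theorem closure_range_eq_top {v : Fin 5 → V} (hv1 : ∀ i, v i ≠ 1)
    (hv : ∀ (g : A₅) i, ρ g (v i) = v ((g : Equiv.Perm (Fin 5)) i)) : closure (Set.range v) = ⊤ := by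
  refine eq_top_of_invariant hcard ρ hρ (fun g x hx => ?_) fun hb => hv1 0 ?_
  · induction hx using closure_induction with
    | mem y hy => obtain ⟨i, rfl⟩ := hy; exact subset_closure ⟨_, (hv g i).symm⟩
    | one => rw [map_one]; exact one_mem _
    | mul y z _ _ hy hz => rw [map_mul]; exact mul_mem hy hz
    | inv y _ hy => rw [map_inv]; exact inv_mem hy
  · exact mem_bot.1 (hb ▸ subset_closure ⟨0, rfl⟩)

include hcard hρ h2 hW2 hbil in
/-- An invariant quadratic map takes at most one nontrivial value, and if it takes one then the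
module has five singular vectors with nontrivial mutual polar value. -/
theorem trivial_target (hq : ∀ g v, q (ρ g v) = q v) :
    ∃ k : W, (∀ a, q a = 1 ∨ q a = k) ∧
      (k ≠ 1 → ∃ v : Fin 5 → V, (∀ i, v i ≠ 1) ∧ (∀ i, q (v i) = 1) ∧
        (∀ i j, i ≠ j → polar q (v i) (v j) = k)) := by
  classical
  by_cases hn : IsNatural ρ
  · obtain ⟨a, ha⟩ : ∃ a : V, a ≠ 1 := by
      by_contra h
      push Not at h
      haveI : Subsingleton V := ⟨fun x y => (h x).trans (h y).symm⟩
      rw [Nat.card_of_subsingleton (1 : V)] at hcard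
      omega
    have hconst : ∀ x : V, x ≠ 1 → q x = q a := fun x hx => by
      obtain ⟨g, rfl⟩ := transitive_of_no_three hcard ρ hρ ha (fun g h1 h2' h3 => ha (hn g h1 h2' _ h3)) hx
      exact hq g a
    have hpol : ∀ x y : V, x ≠ 1 → y ≠ 1 → x ≠ y → polar q x y = q a := fun x y hx hy hxy => by
      have : x * y ≠ 1 := fun h => hxy (by
        calc x = x * (y * y) := by rw [h2, mul_one]
          _ = y := by rw [← mul_assoc, h, one_mul])
      unfold polar
      rw [hconst _ hx, hconst _ hy, hconst _ this, mul_assoc, hW2, mul_one]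
    haveI := Fintype.ofFinite V
    obtain ⟨b, hb⟩ : ∃ b : V, b ∉ ({1, a} : Finset V) := by
      refine not_forall.1 fun h => ?_
      have := Finset.card_le_card (fun x _ => h x : (Finset.univ : Finset V) ⊆ {1, a})
      rw [Finset.card_univ, ← Nat.card_eq_fintype_card, hcard] at this
      have := Finset.card_le_two (a := (1 : V)) (b := a)
      omega
    simp only [Finset.mem_insert, Finset.mem_singleton, not_or] at hb
    obtain ⟨c, hc⟩ : ∃ c : V, c ∉ ({1, a, b, a * b} : Finset V) := by
      refine not_forall.1 fun h => ?_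
      have := Finset.card_le_card (fun x _ => h x : (Finset.univ : Finset V) ⊆ {1, a, b, a * b})
      rw [Finset.card_univ, ← Nat.card_eq_fintype_card, hcard] at this
      have := Finset.card_le_four (a := (1 : V)) (b := a) (c := b) (d := a * b)
      omega
    simp only [Finset.mem_insert, Finset.mem_singleton, not_or] at hc
    obtain ⟨hc1, hca, hcb, hcab⟩ := hc
    have hbc : b * c ≠ 1 := fun h => hcb (by
      calc c = b * b * c := by rw [h2, one_mul]
        _ = b := by rw [mul_assoc, h, mul_one])
    have habc : a ≠ b * c := fun h => hcab (by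
      calc c = b * b * c := by rw [h2, one_mul]
        _ = a * b := by rw [mul_assoc, ← h, mul_comm])
    have hkey : q a = 1 := by
      have h := hbil b c a
      rw [hpol _ _ hbc ha habc.symm, hpol _ _ hb.1 ha hb.2, hpol _ _ hc1 ha hca, hW2] at h
      exact h
    refine ⟨1, fun x => Or.inl ?_, fun h => absurd rfl h⟩
    by_cases hx : x = 1
    · rw [hx, map_one_eq hW2 q hbil]
    · rw [hconst x hx, hkey]
  · obtain ⟨v, hv1, hv, -, -⟩ := exists_points hcard ρ hρ h2 hn
    set k := polar q (v 0) (v 1) with hk
    have hinv : ∀ g x y, polar q (ρ g x) (ρ g y) = polar q x y := fun g x y => by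
      unfold polar
      rw [← map_mul, hq, hq, hq]
    have hpol : ∀ i j, i ≠ j → polar q (v i) (v j) = k := fun i j hij => by
      obtain ⟨g, hgi, hgj⟩ := exists_pair_map 0 1 i j (by decide) hij
      rw [hk, ← hinv g (v 0) (v 1), hv, hv, hgi, hgj]
    have hval : ∀ i, q (v i) = q (v 0) := fun i => by
      obtain ⟨j, hj⟩ := exists_ne i
      obtain ⟨g, hgi, -⟩ := exists_pair_map 0 1 i j (by decide) hj.symm
      rw [← hq g (v 0), hv, hgi]
    have hprod : v 0 * v 1 * v 2 * v 3 * v 4 = 1 := by
      rw [show v 0 * v 1 * v 2 * v 3 * v 4 = ∏ i, v i by rw [Fin.prod_univ_five]]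
      refine eq_one_of_fixed_all hcard ρ hρ fun g => ?_
      rw [map_prod]
      simp only [hv]
      exact Equiv.prod_comp (g : Equiv.Perm (Fin 5)) v
    have hc : q (v 0) = 1 := by
      have h := map_one_eq hW2 q hbil
      rw [← hprod] at h
      simp only [map_mul_eq hW2 q hbil, hbil] at h
      rw [hpol 0 1 (by decide), hpol 0 2 (by decide), hpol 1 2 (by decide), hpol 0 3 (by decide),
        hpol 1 3 (by decide), hpol 2 3 (by decide), hpol 0 4 (by decide), hpol 1 4 (by decide),
        hpol 2 4 (by decide), hpol 3 4 (by decide), hval 1, hval 2, hval 3, hval 4] at h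
      have hcc : q (v 0) * q (v 0) = 1 := hW2 _
      have hkk : k * k = 1 := hW2 _
      have e : ∀ c k : W, c * c = 1 → k * k = 1 →
          c * c * k * c * (k * k) * c * (k * k * k) * c * (k * k * k * k) = c := fun c k hc hk => by
        calc c * c * k * c * (k * k) * c * (k * k * k) * c * (k * k * k * k)
            = (c * c) * (c * c) * c * ((k * k) * (k * k) * (k * k) * (k * k) * (k * k)) := by ac_rfl
          _ = c := by rw [hc, hk]; simp
      rwa [e _ _ hcc hkk] at h
    let K : Subgroup W :=
      { carrier := {x | x = 1 ∨ x = k}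
        one_mem' := Or.inl rfl
        mul_mem' := fun {x y} hx hy => by
          rcases hx with rfl | rfl <;> rcases hy with rfl | rfl <;> simp [hW2]
        inv_mem' := fun {x} hx => by
          rwa [inv_eq_of_mul_eq_one_right (hW2 x)] }
    have hgen := closure_range_eq_top hcard h2 ρ hρ hv1 hv
    have hK1 : ∀ a j, polar q a (v j) ∈ K := by
      intro a j
      induction (hgen ▸ mem_top a : a ∈ closure (Set.range v)) using closure_induction with
      | mem y hy =>
        obtain ⟨i, rfl⟩ := hy
        by_cases hij : i = j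
        · exact Or.inl (by rw [hij, polar_self h2 hW2 q hbil])
        · exact Or.inr (hpol i j hij)
      | one => exact Or.inl (polar_one_left q hbil _)
      | mul y z _ _ hy hz => rw [hbil]; exact mul_mem hy hz
      | inv y _ hy => rwa [inv_eq_of_mul_eq_one_right (h2 y)]
    have hK2 : ∀ a b, polar q a b ∈ K := by
      intro a b
      induction (hgen ▸ mem_top b : b ∈ closure (Set.range v)) using closure_induction with
      | mem y hy => obtain ⟨i, rfl⟩ := hy; exact hK1 a i
      | one => rw [polar_comm]; exact Or.inl (polar_one_left q hbil _)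
      | mul y z _ _ hy hz => rw [polar_comm, hbil, polar_comm q y, polar_comm q z]; exact mul_mem hy hz
      | inv y _ hy => rwa [inv_eq_of_mul_eq_one_right (h2 y)]
    refine ⟨k, fun a => ?_, fun _ => ⟨v, hv1, fun i => (hval i).trans hc, hpol⟩⟩
    show q a ∈ K
    induction (hgen ▸ mem_top a : a ∈ closure (Set.range v)) using closure_induction with
    | mem y hy => obtain ⟨i, rfl⟩ := hy; exact Or.inl ((hval i).trans hc)
    | one => exact Or.inl (map_one_eq hW2 q hbil)
    | mul y z _ _ hy hz => rw [map_mul_eq hW2 q hbil]; exact mul_mem (mul_mem hy hz) (hK2 y z)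
    | inv y _ hy => rwa [inv_eq_of_mul_eq_one_right (h2 y)]

theorem map_pow_three {U : Type*} [CommGroup U] (τ : A₅ →* MulAut U) {g : A₅} (hg : g ^ 3 = 1) (u : U) :
    τ g (τ g (τ g u)) = u := by
  rw [← MulAut.mul_apply, ← MulAut.mul_apply, ← map_mul, ← map_mul, ← pow_two, ← pow_succ, hg, map_one,
    MulAut.one_apply]

theorem prod_three {U : Type*} [CommGroup U] (τ : A₅ →* MulAut U) (hτ : IsNatural τ) {g : A₅} (hg : g ^ 3 = 1)
    (hg1 : g ≠ 1) (u : U) : u * τ g u * τ g (τ g u) = 1 := by
  refine hτ g hg hg1 _ ?_
  rw [MulEquiv.map_mul, MulEquiv.map_mul, map_pow_three τ hg]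
  ac_rfl

variable [Finite W] (hWcard : Nat.card W = 16) (σ : A₅ →* MulAut W) (hσ : σ ≠ 1)

include hcard hρ h2 hW2 hbil hWcard hσ in
/-- An anisotropic equivariant quadratic map into a faithful module either is linear or takes a
single nontrivial value on a four-subgroup. -/
theorem four_target (hq : ∀ g v, q (ρ g v) = σ g (q v)) (han : ∀ v, q v = 1 → v = 1) :
    (∀ a b, polar q a b = 1) ∨ ∃ a b, a ≠ 1 ∧ b ≠ 1 ∧ a ≠ b ∧ q b = q a ∧ q (a * b) = q a := by
  classical
  have heqv : ∀ g x y, polar q (ρ g x) (ρ g y) = σ g (polar q x y) := fun g x y => by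
    unfold polar
    rw [← map_mul, hq, hq, hq, map_mul, map_mul]
  obtain ⟨d₀, -, hd₀, hd₀1, -, -, -, -, -⟩ := exists_three_pair
  by_cases hn : IsNatural ρ
  · by_cases hm : IsNatural σ
    · left
      have hself : ∀ d : A₅, d ^ 3 = 1 → d ≠ 1 → ∀ a, polar q a (ρ d a) = 1 := by
        intro d hd hd1 a
        refine hm d hd hd1 _ ?_
        rw [← heqv]
        have h := prod_three ρ hn hd hd1 a
        have e : ρ d (ρ d a) = a * ρ d a := by
          rw [← inv_eq_of_mul_eq_one_right h, inv_eq_of_mul_eq_one_right (h2 _)]
        rw [e, polar_comm, hbil, polar_self h2 hW2 q hbil, mul_one]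
      have hswap : ∀ d : A₅, d ^ 3 = 1 → d ≠ 1 → ∀ a b, polar q (ρ d a) b = σ d (σ d (polar q a b)) := by
        intro d hd hd1 a b
        have e : ρ d (ρ d a) = a * ρ d a := by
          rw [← inv_eq_of_mul_eq_one_right (prod_three ρ hn hd hd1 a), inv_eq_of_mul_eq_one_right (h2 _)]
        have e' : σ d (σ d (polar q a b)) = polar q a b * σ d (polar q a b) := by
          rw [← inv_eq_of_mul_eq_one_right (prod_three σ hm hd hd1 _), inv_eq_of_mul_eq_one_right (hW2 _)]
        have h3 : σ d (polar q a b) = polar q a b * polar q (ρ d a) b := by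
          rw [← heqv, ← hbil, ← e]
          -- transfer `d` from the second argument to the first one
          have h4 : ∀ x, polar q x (ρ d b) = polar q (ρ d x) b := fun x => by
            have h := hself d hd hd1 (x * b)
            rw [map_mul, hbil, polar_comm q x, polar_comm q b, hbil, hbil, polar_comm q (ρ d x) x,
              polar_comm q (ρ d b) b, hself d hd hd1, hself d hd hd1, one_mul, mul_one,
              polar_comm q (ρ d b) x] at h
            have h' := eq_inv_of_mul_eq_one_left h
            rwa [inv_eq_of_mul_eq_one_right (hW2 _)] at h'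
          exact h4 (ρ d a)
        rw [e', h3, ← mul_assoc, hW2, one_mul]
      obtain ⟨d, e, hd, hd1, he, he1, hne, hde, hde1⟩ := exists_three_pair
      intro a b
      by_contra hab
      let S : Subgroup W := closure {w | ∃ x y, polar q x y = w}
      have hS : S = ⊤ := by
        refine eq_top_of_invariant hWcard σ hσ (fun g w hw => ?_) fun hb => hab ?_
        · induction hw using closure_induction with
          | mem y hy => obtain ⟨x, z, rfl⟩ := hy; exact subset_closure ⟨_, _, heqv g x z⟩
          | one => rw [map_one]; exact one_mem _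
          | mul y z _ _ hy hz => rw [map_mul]; exact mul_mem hy hz
          | inv y _ hy => rw [map_inv]; exact inv_mem hy
        · exact mem_bot.1 (hb ▸ subset_closure ⟨a, b, rfl⟩ : polar q a b ∈ (⊥ : Subgroup W))
      have hop : ∀ w, σ (d * e * (d * e)) w = σ (d * d * (e * e)) w := by
        intro w
        induction (hS ▸ mem_top w : w ∈ S) using closure_induction with
        | mem y hy =>
          obtain ⟨x, z, rfl⟩ := hy
          have h1 := hswap (d * e) hde hde1 x z
          have h3 := hswap d hd hd1 (ρ e x) z
          rw [hswap e he he1 x z] at h3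
          rw [map_mul ρ, MulAut.mul_apply, h3] at h1
          simp only [map_mul, MulAut.mul_apply] at h1 ⊢
          exact h1.symm
        | one => rw [MulEquiv.map_one, MulEquiv.map_one]
        | mul y z _ _ hy hz => rw [MulEquiv.map_mul, MulEquiv.map_mul, hy, hz]
        | inv y _ hy => rw [MulEquiv.map_inv, MulEquiv.map_inv, hy]
      have h := injective_of_ne_one σ hσ (MulEquiv.ext hop)
      apply hne
      have h' : e * d * e = d * e * e := mul_left_cancel (a := d) (by simpa only [mul_assoc] using h)
      exact (mul_right_cancel h').symm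
    · right
      obtain ⟨a, ha⟩ : ∃ a : V, a ≠ 1 := by
        by_contra h
        push Not at h
        haveI : Subsingleton V := ⟨fun x y => (h x).trans (h y).symm⟩
        rw [Nat.card_of_subsingleton (1 : V)] at hcard
        omega
      have hw : q a ≠ 1 := fun h => ha (han a h)
      obtain ⟨g, hg, hg1, hgw⟩ : ∃ g : A₅, g ^ 3 = 1 ∧ g ≠ 1 ∧ σ g (q a) = q a := by
        by_contra hcon
        push Not at hcon
        obtain ⟨u, hu, hu1⟩ : ∃ u ∈ fixed (σ d₀), u ≠ 1 := by
          refine (Subgroup.bot_or_exists_ne_one _).resolve_left fun h => ?_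
          have := not_natural_all hWcard σ hσ hm hd₀ hd₀1
          rw [h, card_bot] at this
          omega
        obtain ⟨h, hh⟩ := transitive_of_no_three hWcard σ hσ hw hcon hu1
        refine hcon (h⁻¹ * d₀ * h) ?_ ?_ ?_
        · rw [show h⁻¹ * d₀ * h = h⁻¹ * d₀ * h⁻¹⁻¹ by rw [inv_inv], conj_pow, hd₀]; group
        · intro h'
          apply hd₀1
          calc d₀ = h * (h⁻¹ * d₀ * h) * h⁻¹ := by group
            _ = 1 := by rw [h']; group
        · rw [map_mul, map_mul, MulAut.mul_apply, MulAut.mul_apply, hh, mem_fixed.1 hu, ← hh, map_inv,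
            MulAut.inv_apply_self]
      refine ⟨a, ρ g a, ha, fun h => ha ((ρ g).map_eq_one_iff.1 h), fun h => ha (hn g hg hg1 a h.symm), ?_, ?_⟩
      · rw [hq, hgw]
      · have h3 : a * ρ g a * ρ g (ρ g a) = 1 := prod_three ρ hn hg hg1 a
        rw [show a * ρ g a = ρ g (ρ g a) by
          rw [eq_inv_of_mul_eq_one_left h3, inv_eq_of_mul_eq_one_right (h2 _)], hq, hq, hgw, hgw]
  · left
    by_cases hm : IsNatural σ
    · exfalso
      obtain ⟨u, hu, hu1⟩ : ∃ u ∈ fixed (ρ d₀), u ≠ 1 := by
        refine (Subgroup.bot_or_exists_ne_one _).resolve_left fun h => ?_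
        have := not_natural_all hcard ρ hρ hn hd₀ hd₀1
        rw [h, card_bot] at this
        omega
      refine hu1 (han u (hm d₀ hd₀ hd₀1 _ ?_))
      rw [← hq, mem_fixed.1 hu]
    · obtain ⟨v, hv1, hv, -, hvne⟩ := exists_points hcard ρ hρ h2 hn
      obtain ⟨w, hw1, hw, hwu, hwne⟩ := exists_points hWcard σ hσ hW2 hm
      have hqv : ∀ i, q (v i) = w i := fun i => by
        refine (hwu i _ fun g hg => ?_).resolve_left fun h => hv1 i (han _ h)
        rw [← hq, hv, hg]
      have hpol : ∀ i j, polar q (v i) (v j) = 1 := by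
        intro i j
        by_cases hij : i = j
        · rw [hij, polar_self h2 hW2 q hbil]
        obtain ⟨d, s, hd, hd1, hdi, hdj, hsi, hsj, -⟩ := exists_pair_data i j hij
        have hwd : ∀ l, (d : Equiv.Perm (Fin 5)) l = l → w l ∈ fixed (σ d) := fun l hl =>
          mem_fixed.2 (by rw [hw, hl])
        have hwij : w i * w j ≠ 1 := fun h => hwne i j hij (by
          calc w i = w i * (w j * w j) := by rw [hW2, mul_one]
            _ = w j := by rw [← mul_assoc, h, one_mul])
        have hsub : ({1, w i, w j, w i * w j} : Set W) ⊆ (fixed (σ d) : Set W) := by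
          rintro x (rfl | rfl | rfl | rfl)
          · exact one_mem _
          · exact hwd i hdi
          · exact hwd j hdj
          · exact mul_mem (hwd i hdi) (hwd j hdj)
        have hc4 : ({1, w i, w j, w i * w j} : Set W).ncard = 4 := by
          rw [Set.ncard_insert_of_notMem (by simp [(hw1 i).symm, (hw1 j).symm, hwij.symm]) (Set.toFinite _),
            Set.ncard_insert_of_notMem (by simp [hwne i j hij, hw1 j]) (Set.toFinite _),
            Set.ncard_pair (by simp [hw1 i])]
        have heq := Set.eq_of_subset_of_ncard_le hsub (by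
          rw [hc4, ← Nat.card_coe_set_eq]
          exact (not_natural_all hWcard σ hσ hm hd hd1).le) (Set.toFinite _)
        have hqd : q (v i * v j) ∈ (fixed (σ d) : Set W) := by
          show σ d (q (v i * v j)) = q (v i * v j)
          rw [← hq, map_mul, hv, hv, hdi, hdj]
        have hqs : σ s (q (v i * v j)) = q (v i * v j) := by
          rw [← hq, map_mul, hv, hv, hsi, hsj, mul_comm]
        rw [← heq] at hqd
        rcases hqd with h | h | h | h
        · exact absurd (han _ h) fun h' => hvne i j hij (by
            calc v i = v i * (v j * v j) := by rw [h2, mul_one]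
              _ = v j := by rw [← mul_assoc, h', one_mul])
        · rw [h, hw, hsi] at hqs; exact absurd hqs.symm (hwne i j hij)
        · rw [h, hw, hsj] at hqs; exact absurd hqs (hwne i j hij)
        · unfold polar
          rw [h, hqv, hqv, mul_assoc, hW2]
      have hgen := closure_range_eq_top hcard h2 ρ hρ hv1 hv
      have hK1 : ∀ a j, polar q a (v j) = 1 := by
        intro a j
        induction (hgen ▸ mem_top a : a ∈ closure (Set.range v)) using closure_induction with
        | mem y hy => obtain ⟨i, rfl⟩ := hy; exact hpol i j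
        | one => exact polar_one_left q hbil _
        | mul y z _ _ hy hz => rw [hbil, hy, hz, one_mul]
        | inv y _ hy => rwa [inv_eq_of_mul_eq_one_right (h2 y)]
      intro a b
      induction (hgen ▸ mem_top b : b ∈ closure (Set.range v)) using closure_induction with
      | mem y hy => obtain ⟨i, rfl⟩ := hy; exact hK1 a i
      | one => rw [polar_comm]; exact polar_one_left q hbil _
      | mul y z _ _ hy hz => rw [polar_comm, hbil, polar_comm q y, polar_comm q z, hy, hz, one_mul]
      | inv y _ hy => rwa [inv_eq_of_mul_eq_one_right (h2 y)]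

end Quad

end CfsgLib.RankFourAltFive
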