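import Cfsg.Agent.Lib.InvChar.RankFourAltFive.Section
import Cfsg.Agent.Lib.InvChar.RankFourAltFive.Quad

/-!
# A layer of a two-group extended by the alternating group of degree five
-/

set_option autoImplicit false
set_option linter.style.haveILetI false

open Subgroup

universe u

namespace CfsgLib.RankFourAltFive

local notation "A₅" => alternatingGroup (Fin 5)

variable {G : Type u} [Group G] [Finite G] (π : G →* A₅)

/-- `W` is normal inside the kernel and contains all squares of the kernel. -/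
theorem exists_action (hπ : Function.Surjective π) (W : Subgroup G) [W.Normal]
    (hsq : ∀ m ∈ π.ker, m * m ∈ W) :
    ∃ (V : Type u) (_ : CommGroup V) (_ : Finite V) (ρ : A₅ →* MulAut V) (p : π.ker →* V),
      Function.Surjective p ∧ (∀ m, p m = 1 ↔ (m : G) ∈ W) ∧ (∀ v : V, v * v = 1) ∧
      Nat.card V = W.relIndex π.ker ∧ (∀ g m, ρ (π g) (p m) = p (MulAut.conjNormal g m)) := by
  classical
  let N : Subgroup π.ker := W.subgroupOf π.ker
  have h2 : ∀ v : π.ker ⧸ N, v * v = 1 := fun v => by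
    induction v using QuotientGroup.induction_on with
    | _ x => exact (QuotientGroup.eq_one_iff _).2 (mem_subgroupOf.2 (hsq _ x.2))
  have hcomm : ∀ a b : π.ker ⧸ N, a * b = b * a := fun a b => by
    have ha := inv_eq_of_mul_eq_one_right (h2 a)
    have hb := inv_eq_of_mul_eq_one_right (h2 b)
    have hab := inv_eq_of_mul_eq_one_right (h2 (a * b))
    rw [mul_inv_rev, ha, hb] at hab
    exact hab.symm
  letI iV : CommGroup (π.ker ⧸ N) := { (inferInstance : Group (π.ker ⧸ N)) with mul_comm := hcomm }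
  have hmap : ∀ g : G, N.map (MulAut.conjNormal g : MulAut π.ker).toMonoidHom = N := by
    have hle : ∀ g : G, N.map (MulAut.conjNormal g : MulAut π.ker).toMonoidHom ≤ N := fun g => by
      rintro _ ⟨x, hx, rfl⟩
      refine mem_subgroupOf.2 ?_
      show ((MulAut.conjNormal g x : π.ker) : G) ∈ W
      rw [MulAut.conjNormal_apply]
      exact Normal.conj_mem ‹_› _ (mem_subgroupOf.1 hx) g
    intro g
    refine le_antisymm (hle g) fun y hy => ⟨(MulAut.conjNormal g : MulAut π.ker)⁻¹ y, ?_, MulAut.apply_inv_self _ _ _⟩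
    rw [← map_inv]
    exact hle g⁻¹ ⟨y, hy, rfl⟩
  let act : G →* MulAut (π.ker ⧸ N) :=
    MonoidHom.mk' (fun g => QuotientGroup.congr _ _ (MulAut.conjNormal g) (hmap g)) (fun g h => by
      refine MulEquiv.ext fun v => ?_
      induction v using QuotientGroup.induction_on with
      | _ v =>
        show QuotientGroup.mk ((MulAut.conjNormal (g * h) : MulAut π.ker) v) =
          QuotientGroup.mk ((MulAut.conjNormal g : MulAut π.ker) ((MulAut.conjNormal h : MulAut π.ker) v))
        rw [map_mul, MulAut.mul_apply])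
  have hker : π.ker ≤ act.ker := by
    intro g hg
    refine MonoidHom.mem_ker.2 (MulEquiv.ext fun v => ?_)
    induction v using QuotientGroup.induction_on with
    | _ v =>
      show (QuotientGroup.mk ((MulAut.conjNormal g : MulAut π.ker) v) : π.ker ⧸ N) = QuotientGroup.mk v
      have e : (MulAut.conjNormal g : MulAut π.ker) v = ⟨g, hg⟩ * v * (⟨g, hg⟩ : π.ker)⁻¹ :=
        Subtype.ext (MulAut.conjNormal_apply g v)
      rw [e, QuotientGroup.mk_mul, QuotientGroup.mk_mul, QuotientGroup.mk_inv, hcomm (QuotientGroup.mk _),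
        mul_inv_cancel_right]
  let ρ : A₅ →* MulAut (π.ker ⧸ N) := π.liftOfSurjective hπ ⟨act, hker⟩
  have hρ : ∀ g, ρ (π g) = act g := fun g => by
    simp [ρ]
  refine ⟨π.ker ⧸ N, iV, inferInstance, ρ, QuotientGroup.mk' N, QuotientGroup.mk'_surjective N, fun m => ?_,
    h2, rfl, fun g m => ?_⟩
  · exact (QuotientGroup.eq_one_iff m).trans mem_subgroupOf
  · rw [hρ]; rfl

/-- The conjugation action on a normal subgroup centralized by the kernel. -/
theorem exists_central_action (hπ : Function.Surjective π) (W : Subgroup G) [W.Normal]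
    (hWM : W ≤ π.ker) (hc : ∀ m ∈ π.ker, ∀ w ∈ W, m * w = w * m) :
    ∃ (U : Type u) (_ : CommGroup U) (_ : Finite U) (σ : A₅ →* MulAut U) (j : U →* G),
      Function.Injective j ∧ (∀ x, x ∈ W ↔ ∃ u, j u = x) ∧ Nat.card U = Nat.card W ∧
      (∀ g u, j (σ (π g) u) = g * j u * g⁻¹) := by
  letI iU : CommGroup W :=
    { (inferInstance : Group W) with mul_comm := fun a b => Subtype.ext (hc _ (hWM a.2) _ b.2) }
  let act : G →* MulAut W := MulAut.conjNormal
  have hker : π.ker ≤ act.ker := by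
    intro g hg
    refine MonoidHom.mem_ker.2 (MulEquiv.ext fun w => Subtype.ext ?_)
    show ((MulAut.conjNormal g w : W) : G) = w
    rw [MulAut.conjNormal_apply, hc g hg _ w.2, mul_inv_cancel_right]
  refine ⟨W, iU, inferInstance, π.liftOfSurjective hπ ⟨act, hker⟩, W.subtype, Subtype.val_injective,
    fun x => ⟨fun h => ⟨⟨x, h⟩, rfl⟩, ?_⟩, rfl, fun g u => ?_⟩
  · rintro ⟨u, rfl⟩
    exact u.2
  rw [MonoidHom.liftOfRightInverse_comp_apply]
  exact MulAut.conjNormal_apply g u

/-- `W` is a normal subgroup below the kernel with quotient a module of order sixteen on which the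
top acts nontrivially. -/
structure Layer (W : Subgroup G) : Prop where
  surj : Function.Surjective π
  le : W ≤ π.ker
  normal : W.Normal
  sq_mem : ∀ m ∈ π.ker, m * m ∈ W
  index : W.relIndex π.ker = 16
  moves : ∃ g m, m ∈ π.ker ∧ g * m * g⁻¹ * m⁻¹ ∉ W

variable {π}

theorem Layer.exists_module {W : Subgroup G} (L : Layer π W) :
    ∃ (V : Type u) (_ : CommGroup V) (_ : Finite V) (ρ : A₅ →* MulAut V) (p : π.ker →* V),
      Function.Surjective p ∧ (∀ m, p m = 1 ↔ (m : G) ∈ W) ∧ (∀ v : V, v * v = 1) ∧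
      Nat.card V = 16 ∧ ρ ≠ 1 ∧ (∀ g m, ρ (π g) (p m) = p (MulAut.conjNormal g m)) := by
  haveI := L.normal
  obtain ⟨V, iV, iF, ρ, p, hp, hp1, h2, hcard, heq⟩ := exists_action π L.surj W L.sq_mem
  refine ⟨V, iV, iF, ρ, p, hp, hp1, h2, hcard.trans L.index, ?_, heq⟩
  intro h
  obtain ⟨g, m, hm, hne⟩ := L.moves
  refine hne ?_
  have e := heq g ⟨m, hm⟩
  rw [h, MonoidHom.one_apply, MulAut.one_apply, ← mul_inv_eq_one, ← map_inv, ← map_mul, hp1] at e
  have e' : (((⟨m, hm⟩ : π.ker) * ((MulAut.conjNormal g ⟨m, hm⟩ : π.ker))⁻¹ : π.ker) : G) ∈ W := e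
  rw [Subgroup.coe_mul, Subgroup.coe_inv, MulAut.conjNormal_apply] at e'
  have := inv_mem e'
  simpa [mul_assoc] using this

/-- A normal subgroup strictly between the layer and the kernel does not exist. -/
theorem Layer.eq_ker {W : Subgroup G} (L : Layer π W) (K : Subgroup G) [K.Normal] (hWK : W ≤ K)
    (hK : K ≤ π.ker) (hne : ¬ K ≤ W) : K = π.ker := by
  obtain ⟨V, iV, iF, ρ, p, hp, hp1, h2, hcard, hρ, heq⟩ := L.exists_module
  let S : Subgroup V := (K.subgroupOf π.ker).map p
  have hS : ∀ a v, v ∈ S → ρ a v ∈ S := by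
    intro a v hv
    obtain ⟨g, rfl⟩ := L.surj a
    obtain ⟨m, hm, rfl⟩ := hv
    rw [heq]
    refine mem_map_of_mem p (mem_subgroupOf.2 ?_)
    rw [MulAut.conjNormal_apply]
    exact Normal.conj_mem ‹_› _ (mem_subgroupOf.1 hm) g
  have hSb : S ≠ ⊥ := by
    intro h
    refine hne fun x hx => ?_
    have : p ⟨x, hK hx⟩ ∈ S := mem_map_of_mem p (mem_subgroupOf.2 hx)
    rw [h, mem_bot, hp1] at this
    exact this
  have htop := eq_top_of_invariant hcard ρ hρ hS hSb
  refine le_antisymm hK fun x hx => ?_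
  obtain ⟨m, hm, he⟩ : p ⟨x, hx⟩ ∈ S := htop ▸ mem_top _
  have h1 : p (m⁻¹ * ⟨x, hx⟩) = 1 := by rw [map_mul, map_inv, he, inv_mul_cancel]
  have h1' := mul_mem (mem_subgroupOf.1 hm) (hWK ((hp1 _).1 h1))
  rw [Subgroup.coe_mul, Subgroup.coe_inv, mul_inv_cancel_left] at h1'
  exact h1'

/-- An invariant homomorphism of the kernel which vanishes on the layer and takes at most two values is trivial. -/
theorem Layer.hom_trivial {W : Subgroup G} (L : Layer π W) {U : Type*} [Group U] [Finite U]
    (hU : Nat.card U ≤ 2) (f : π.ker →* U) (hfW : ∀ m : π.ker, (m : G) ∈ W → f m = 1)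
    (hinv : ∀ g m, f (MulAut.conjNormal g m) = f m) : f = 1 := by
  let K : Subgroup G := f.ker.map π.ker.subtype
  have hKn : K.Normal := ⟨fun x hx g => by
    obtain ⟨m, hm, rfl⟩ := hx
    refine ⟨MulAut.conjNormal g m, ?_, MulAut.conjNormal_apply g m⟩
    rw [SetLike.mem_coe, MonoidHom.mem_ker, hinv]
    exact MonoidHom.mem_ker.1 hm⟩
  have hWK : W ≤ K := fun x hx => ⟨⟨x, L.le hx⟩, hfW ⟨x, L.le hx⟩ hx, rfl⟩
  have hK : K ≤ π.ker := map_subtype_le _
  have hidx : K.relIndex π.ker ≤ 2 := by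
    have e : K.subgroupOf π.ker = f.ker := comap_map_eq_self_of_injective Subtype.val_injective _
    rw [relIndex, e, index_ker]
    exact (card_le_card_group f.range).trans hU
  have hne : ¬ K ≤ W := by
    intro h
    have := L.index
    rw [← le_antisymm hWK h] at hidx
    omega
  have := L.eq_ker K hWK hK hne
  refine MonoidHom.ext fun m => ?_
  obtain ⟨m', hm', e⟩ := (this.symm ▸ m.2 : (m : G) ∈ K)
  rw [← Subtype.ext e]
  exact MonoidHom.mem_ker.1 hm'

end CfsgLib.RankFourAltFive
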