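import Cfsg.Agent.Lib.InvChar.RankFourAltFive.Minimal
import Cfsg.Agent.Lib.InvChar.RankFourAltFive.CentralProduct
import Cfsg.Agent.Lib.PGroup.Frattini
import Cfsg.Agent.Lib.Coprime.Commutator

/-!
# Self-centralizing two-groups of sectional rank four extended by the alternating group of degree five
-/

set_option autoImplicit false
set_option linter.style.haveILetI false

open Subgroup

universe u

namespace CfsgLib.RankFourAltFive

local notation "A₅" => alternatingGroup (Fin 5)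

variable {G : Type u} [Group G] [Finite G] {π : G →* A₅}

/-- The subgroup generated by the squares of the kernel. -/
def sqSub (π : G →* A₅) : Subgroup G := closure {x | ∃ m ∈ π.ker, m * m = x}

theorem sqSub_normal : (sqSub π).Normal := by
  refine ⟨fun x hx g => ?_⟩
  induction hx using closure_induction with
  | mem y hy =>
    obtain ⟨m, hm, rfl⟩ := hy
    exact subset_closure ⟨g * m * g⁻¹, Normal.conj_mem π.normal_ker m hm g, by group⟩
  | one => rw [mul_one, mul_inv_cancel]; exact one_mem _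
  | mul y z _ _ hy hz =>
    rw [show g * (y * z) * g⁻¹ = g * y * g⁻¹ * (g * z * g⁻¹) by group]
    exact mul_mem hy hz
  | inv y _ hy =>
    rw [show g * y⁻¹ * g⁻¹ = (g * y * g⁻¹)⁻¹ by group]
    exact inv_mem hy

theorem sqSub_le : sqSub π ≤ π.ker := (closure_le _).2 fun x ⟨m, hm, h⟩ => h ▸ mul_mem hm hm

/-- The squares form a layer. -/
theorem layer_sqSub (hπ : Function.Surjective π) (hM : IsPGroup 2 π.ker)
    (hc : centralizer (π.ker : Set G) ≤ π.ker) (hsec : SecLE G) : Layer π (sqSub π) := by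
  classical
  haveI : Fact (Nat.Prime 2) := ⟨Nat.prime_two⟩
  haveI := sqSub_normal (π := π)
  have hsq : ∀ m ∈ π.ker, m * m ∈ sqSub π := fun m hm => subset_closure ⟨m, hm, rfl⟩
  have hΦ : sqSub π ≤ (frattini π.ker).map π.ker.subtype := by
    refine (closure_le _).2 ?_
    rintro x ⟨m, hm, rfl⟩
    exact ⟨⟨m, hm⟩ ^ 2, CfsgLib.PGroup.pow_mem_frattini hM _, by rw [pow_two]; rfl⟩
  have hmove : ∀ y : G, π y ≠ 1 → (∃ t, Odd t ∧ y ^ t = 1) →
      ∃ m ∈ π.ker, y * m * y⁻¹ * m⁻¹ ∉ sqSub π := by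
    intro y hy ht
    by_contra hcon
    push Not at hcon
    refine hy (MonoidHom.mem_ker.1 (hc ?_))
    have hle : zpowers y ≤ centralizer (π.ker : Set G) := by
      refine CfsgLib.Coprime.le_centralizer_of_trivial_on_frattini (zpowers y) π.ker
        (le_top.trans (Subgroup.normalizer_eq_top (H := π.ker)).ge) ?_ ?_
      · rw [Nat.card_zpowers]
        obtain ⟨i, hi⟩ := IsPGroup.iff_card.1 (hM.to_subgroup (frattini π.ker))
        rw [hi]
        obtain ⟨t, ht, hyt⟩ := ht
        exact Nat.Coprime.pow_right i ((Nat.coprime_two_right.2 (ht.of_dvd_nat (orderOf_dvd_of_pow_eq_one hyt))))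
      · intro a ha k hk
        refine hΦ ?_
        let S : Subgroup G :=
          { carrier := {b | ∀ m ∈ π.ker, b * m * b⁻¹ * m⁻¹ ∈ sqSub π}
            one_mem' := fun m _ => by rw [one_mul, inv_one, mul_one, mul_inv_cancel]; exact one_mem _
            mul_mem' := fun {b c} hb hc m hm => by
              rw [show b * c * m * (b * c)⁻¹ * m⁻¹ = b * (c * m * c⁻¹) * b⁻¹ * (c * m * c⁻¹)⁻¹ * (c * m * c⁻¹ * m⁻¹) by group]
              exact mul_mem (hb _ (Normal.conj_mem π.normal_ker m hm c)) (hc m hm)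
            inv_mem' := fun {b} hb m hm => by
              have h := hb (b⁻¹ * m * b) (by simpa using Normal.conj_mem π.normal_ker m hm b⁻¹)
              have h' := inv_mem h
              rw [show (b * (b⁻¹ * m * b) * b⁻¹ * (b⁻¹ * m * b)⁻¹)⁻¹ = b⁻¹ * m * b⁻¹⁻¹ * m⁻¹ by group] at h'
              exact h' }
        exact (zpowers_le.2 (show y ∈ S from hcon) ha) k hk
    exact hle (mem_zpowers y)
  have hodd : ∀ f : A₅, f ≠ 1 → Odd (orderOf f) → ∃ y, π y = f ^ (2 ^ (orderOf (Function.surjInv hπ f)).factorization 2) ∧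
      π y ≠ 1 ∧ ∃ t, Odd t ∧ y ^ t = 1 := by
    intro f hf ho
    set x := Function.surjInv hπ f
    set e := (orderOf x).factorization 2
    refine ⟨x ^ 2 ^ e, by rw [map_pow, Function.surjInv_eq hπ f], ?_, orderOf x / 2 ^ e, ?_, ?_⟩
    · rw [map_pow, Function.surjInv_eq hπ f]
      intro h
      have hd := orderOf_dvd_of_pow_eq_one h
      have hd' : orderOf f ∣ 1 :=
        (Nat.Coprime.pow_right e (Nat.coprime_two_right.2 ho)).dvd_of_dvd_mul_right (m := 1) (by rwa [one_mul])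
      exact hf (orderOf_eq_one_iff.1 (Nat.dvd_one.1 hd'))
    · exact Nat.odd_iff.2 (Nat.two_dvd_ne_zero.1 (Nat.not_dvd_ordCompl Nat.prime_two (orderOf_pos x).ne'))
    · rw [← pow_mul, Nat.mul_div_cancel' (Nat.ordProj_dvd _ _), pow_orderOf_eq_one]
  obtain ⟨f, hf5, hf1⟩ := exists_five
  haveI : Fact (Nat.Prime 5) := ⟨by norm_num⟩
  have hfo : orderOf f = 5 := orderOf_eq_prime hf5 hf1
  obtain ⟨y, hyf, hy1, hyt⟩ := hodd f hf1 (by rw [hfo]; decide)
  obtain ⟨m, hm, hmne⟩ := hmove y hy1 hyt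
  refine ⟨hπ, sqSub_le, sqSub_normal, hsq, ?_, y, m, hm, hmne⟩
  obtain ⟨V, iV, iF, ρ, p, hp, hp1, h2, hcard, heq⟩ := exists_action π hπ (sqSub π) hsq
  rw [← hcard]
  have hρ : ρ (π y) ≠ 1 := by
    intro h
    refine hmne ?_
    have e := heq y ⟨m, hm⟩
    rw [h, MulAut.one_apply, ← mul_inv_eq_one, ← map_inv, ← map_mul, hp1, Subgroup.coe_mul, Subgroup.coe_inv,
      MulAut.conjNormal_apply] at e
    have h' := inv_mem e
    rwa [mul_inv_rev, inv_inv] at h'
  have hle : Nat.card V ≤ 16 := hcard ▸ hsec π.ker (sqSub π) sqSub_le hsq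
  have hp2 : IsPGroup 2 V := fun v => ⟨1, by rw [pow_one, pow_two, h2]⟩
  obtain ⟨k, hk⟩ := hp2.exists_card_eq
  have hk4 : k ≤ 4 := (Nat.pow_le_pow_iff_right (le_refl 2)).1 (by rw [← hk]; exact hle)
  by_contra hne
  have hk3 : k ≤ 3 := by
    by_contra h
    exact hne (by rw [hk, show k = 4 by omega]; norm_num)
  have h5 : (ρ (π y)) ^ 5 = 1 := by
    rw [← map_pow, hyf, ← pow_mul, mul_comm, pow_mul, hf5, one_pow, map_one]
  have hmod := card_fixed_modEq (p := 5) (ρ (π y)) h5 ⊤ (fun v => by simp)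
  rw [top_inf_eq, card_top, hk] at hmod
  have hd : Nat.card (fixed (ρ (π y))) ∣ 2 ^ k := hk ▸ card_subgroup_dvd_card _
  obtain ⟨i, hi, hi'⟩ := (Nat.dvd_prime_pow Nat.prime_two).1 hd
  rw [hi'] at hmod
  have hik : i = k := by interval_cases k <;> interval_cases i <;> first | rfl | exact absurd hmod (by decide)
  refine hρ ?_
  have htop : fixed (ρ (π y)) = ⊤ := eq_top_of_card_eq _ (by rw [hi', hk, hik])
  exact MulEquiv.ext fun w => mem_fixed.1 (htop ▸ mem_top w : w ∈ fixed (ρ (π y)))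

/-- Passage to a quotient by a normal subgroup below a layer. -/
theorem Layer.quotient {F : Subgroup G} (L : Layer π F) (hM : IsPGroup 2 π.ker) (N : Subgroup G) [N.Normal]
    (hNF : N ≤ F) (hgen : F ≤ sqSub π) (hsec : SecLE G) :
    ∃ π' : G ⧸ N →* A₅, π'.ker = π.ker.map (QuotientGroup.mk' N) ∧ IsPGroup 2 π'.ker ∧
      Layer π' (F.map (QuotientGroup.mk' N)) ∧ SecLE (G ⧸ N) ∧ F.map (QuotientGroup.mk' N) ≤ sqSub π' ∧
      ∀ K : Subgroup (G ⧸ N), K.comap (QuotientGroup.mk' N) ≤ π.ker → K ≤ π'.ker := by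
  haveI := L.normal
  let f := QuotientGroup.mk' N
  have hf : Function.Surjective f := QuotientGroup.mk'_surjective N
  have hNM : N ≤ π.ker := hNF.trans L.le
  let π' : G ⧸ N →* A₅ := QuotientGroup.lift N π hNM
  have hker : π'.ker = π.ker.map f := QuotientGroup.ker_lift N π hNM
  have hcomap : (F.map f).comap f = F := comap_map_eq_self (by rw [QuotientGroup.ker_mk']; exact hNF)
  refine ⟨π', hker, hker ▸ hM.map f, ?_, hsec.map f hf, ?_, fun K hK => ?_⟩
  · refine ⟨fun a => ?_, hker ▸ map_mono L.le, L.normal.map f hf, ?_, ?_, ?_⟩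
    · obtain ⟨g, rfl⟩ := L.surj a
      exact ⟨f g, rfl⟩
    · rw [hker]
      rintro _ ⟨m, hm, rfl⟩
      rw [← map_mul]
      exact mem_map_of_mem f (L.sq_mem m hm)
    · rw [hker, ← relIndex_comap, hcomap, L.index]
    · obtain ⟨g, m, hm, hne⟩ := L.moves
      refine ⟨f g, f m, hker ▸ mem_map_of_mem f hm, fun h => hne ?_⟩
      rw [← map_inv, ← map_inv, ← map_mul, ← map_mul, ← map_mul, ← mem_comap, hcomap] at h
      exact h
  · refine (map_mono hgen).trans ?_
    rw [sqSub, MonoidHom.map_closure]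
    refine closure_mono ?_
    rintro _ ⟨x, ⟨m, hm, rfl⟩, rfl⟩
    exact ⟨f m, hker ▸ mem_map_of_mem f hm, (map_mul f m m).symm⟩
  · intro q hq
    obtain ⟨g, rfl⟩ := hf q
    rw [hker]
    exact mem_map_of_mem f (hK hq)

/-- A maximal normal subgroup properly inside gives a minimal one in the quotient. -/
theorem minimal_of_maximal {F N : Subgroup G} [N.Normal] (hNF : N < F)
    (hmax : ∀ N' : Subgroup G, N'.Normal → N ≤ N' → N' < F → N' = N) :
    F.map (QuotientGroup.mk' N) ≠ ⊥ ∧ ∀ K : Subgroup (G ⧸ N), K.Normal → K ≤ F.map (QuotientGroup.mk' N) →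
      K ≠ ⊥ → K = F.map (QuotientGroup.mk' N) := by
  have hf := QuotientGroup.mk'_surjective N
  have hcomap : (F.map (QuotientGroup.mk' N)).comap (QuotientGroup.mk' N) = F :=
    comap_map_eq_self (by rw [QuotientGroup.ker_mk']; exact hNF.le)
  refine ⟨fun h => hNF.ne ?_, fun K hK hKF hKne => ?_⟩
  · rw [← hcomap, h, MonoidHom.comap_bot, QuotientGroup.ker_mk']
  · by_contra hne
    apply hKne
    have hNK : N ≤ K.comap (QuotientGroup.mk' N) := by
      intro x hx
      rw [mem_comap, show QuotientGroup.mk' N x = 1 from (QuotientGroup.eq_one_iff x).2 hx]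
      exact one_mem K
    have hlt : K.comap (QuotientGroup.mk' N) < F := by
      refine lt_of_le_of_ne (hcomap ▸ comap_mono hKF) fun h => hne ?_
      rw [← map_comap_eq_self_of_surjective hf K, h]
    rw [← map_comap_eq_self_of_surjective hf K, hmax _ (hK.comap _) hNK hlt, eq_bot_iff]
    rintro _ ⟨x, hx, rfl⟩
    exact mem_bot.2 ((QuotientGroup.eq_one_iff x).2 hx)

/-- The kernel is elementary of order sixteen, or of order thirty-two with five special elements. -/
theorem radical_cases (hπ : Function.Surjective π) (hM : IsPGroup 2 π.ker)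
    (hc : centralizer (π.ker : Set G) ≤ π.ker) (hsec : SecLE G) :
    (Nat.card π.ker = 16 ∧ ∀ m ∈ π.ker, m * m = 1) ∨
      (Nat.card π.ker = 32 ∧ ∃ k ∈ π.ker, k ≠ 1 ∧ k * k = 1 ∧ (∀ m ∈ π.ker, m * k = k * m) ∧
        ∃ v : Fin 5 → G, (∀ i, v i ∈ π.ker) ∧ (∀ i, v i * v i = 1) ∧
          (∀ i l, i ≠ l → v i * v l = v l * v i * k)) := by
  classical
  have L := layer_sqSub hπ hM hc hsec
  by_cases hΦ : sqSub π = ⊥
  · refine Or.inl ⟨?_, fun m hm => mem_bot.1 (hΦ ▸ L.sq_mem m hm)⟩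
    rw [← L.index, hΦ, relIndex_bot_left]
  right
  haveI := L.normal
  have hex : ∀ (F : Subgroup G), F ≠ ⊥ → ∃ N : Subgroup G, N.Normal ∧ N < F ∧
      ∀ N' : Subgroup G, N'.Normal → N ≤ N' → N' < F → N' = N := by
    intro F hF
    obtain ⟨N, hN⟩ := (Set.toFinite {N : Subgroup G | N.Normal ∧ N < F}).exists_maximal
      ⟨⊥, inferInstance, bot_lt_iff_ne_bot.2 hF⟩
    exact ⟨N, hN.prop.1, hN.prop.2, fun N' h1 h2 h3 => le_antisymm (hN.2 ⟨h1, h3⟩ h2) h2⟩
  obtain ⟨N, hNn, hNlt, hNmax⟩ := hex _ hΦ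
  obtain ⟨π', hker, hM', L', hsec', hgen', -⟩ := L.quotient hM N hNlt.le le_rfl hsec
  haveI := L'.normal
  obtain ⟨hne, hmin⟩ := minimal_of_maximal hNlt hNmax
  obtain ⟨hcen, h2⟩ := minimal_central hM' _ L'.le hne hmin
  have CL : CentralLayer π' ((sqSub π).map (QuotientGroup.mk' N)) :=
    { toLayer := L', sq_one := h2, central := hcen }
  rcases minimal_cases L'.surj _ L'.le hne hmin hcen h2 hsec' with ⟨hW2, hfix⟩ | ⟨hW16, hmove, -⟩
  swap
  · exact absurd hsec' fun h => CL.faithful_case hW16 hmove h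
  have hNbot : N = ⊥ := by
    by_contra hNne
    obtain ⟨N', hN'n, hN'lt, hN'max⟩ := hex _ hNne
    obtain ⟨π'', hker'', hM'', L'', hsec'', hgen'', -⟩ := L.quotient hM N' (hN'lt.le.trans hNlt.le) le_rfl hsec
    obtain ⟨hne'', hmin''⟩ := minimal_of_maximal hN'lt hN'max
    haveI : (N.map (QuotientGroup.mk' N')).Normal := hNn.map _ (QuotientGroup.mk'_surjective N')
    have hU : N.map (QuotientGroup.mk' N') ≤ π''.ker := (map_mono hNlt.le).trans L''.le
    obtain ⟨hcen'', h2''⟩ := minimal_central hM'' _ hU hne'' hmin''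
    refine no_second_layer _ _ L'' hsec'' (map_mono hNlt.le) ?_ hne'' hmin'' hcen'' h2'' hgen''
    rw [← relIndex_comap, comap_map_eq_self (by rw [QuotientGroup.ker_mk']; exact hN'lt.le)]
    rw [← hW2, ← relIndex_bot_left, ← relIndex_comap, MonoidHom.comap_bot, QuotientGroup.ker_mk']
  subst hNbot
  have hinj : Function.Injective (QuotientGroup.mk' (⊥ : Subgroup G)) := by
    rw [← MonoidHom.ker_eq_bot_iff, QuotientGroup.ker_mk']
  have hΦ2 : Nat.card (sqSub π) = 2 := by rw [← hW2, card_map_of_injective hinj]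
  have hcardM : Nat.card π.ker = 32 := by
    have h := relIndex_mul_relIndex (⊥ : Subgroup G) (sqSub π) π.ker bot_le sqSub_le
    rw [relIndex_bot_left, relIndex_bot_left, hΦ2, L.index] at h
    omega
  have hback : ∀ g, ∀ w ∈ sqSub π, g * w = w * g := fun g w hw => hinj (by
    rw [map_mul, map_mul]; exact hfix _ _ (mem_map_of_mem _ hw))
  have CL' : CentralLayer π (sqSub π) :=
    { toLayer := L
      sq_one := fun w hw => hinj (by rw [map_mul, map_one]; exact h2 _ (mem_map_of_mem _ hw))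
      central := fun m _ w hw => hback m w hw }
  obtain ⟨k, hk, hsq, hpts⟩ := CL'.trivial_case hback
  have hk1 : k ≠ 1 := by
    rintro rfl
    refine hΦ (eq_bot_iff.2 ((closure_le _).2 ?_))
    rintro x ⟨m, hm, rfl⟩
    exact mem_bot.2 ((hsq m hm).elim id id)
  exact ⟨hcardM, k, L.le hk, hk1, CL'.sq_one k hk, fun m _ => hback m k hk, hpts hk1⟩

end CfsgLib.RankFourAltFive
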