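import Cfsg.Agent.Lib.InvChar.RankFourAltFive.Faithful
import Cfsg.Agent.Lib.GammaRankOne.Two

/-!
# Minimal normal subgroups inside the kernel
-/

set_option autoImplicit false
set_option linter.style.haveILetI false

open Subgroup

universe u

namespace CfsgLib.RankFourAltFive

local notation "A₅" => alternatingGroup (Fin 5)

variable {G : Type u} [Group G] [Finite G] {π : G →* A₅}

/-- A minimal normal subgroup of the two-group kernel is central in it and elementary. -/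
theorem minimal_central (hM : IsPGroup 2 π.ker) (U : Subgroup G) [U.Normal] (hU : U ≤ π.ker)
    (hne : U ≠ ⊥) (hmin : ∀ N : Subgroup G, N.Normal → N ≤ U → N ≠ ⊥ → N = U) :
    (∀ m ∈ π.ker, ∀ w ∈ U, m * w = w * m) ∧ ∀ w ∈ U, w * w = 1 := by
  classical
  haveI : Fact (Nat.Prime 2) := ⟨Nat.prime_two⟩
  let Z : Subgroup G := U ⊓ centralizer (π.ker : Set G)
  have hZn : Z.Normal := inferInstance
  obtain ⟨z, hzU, hzc, hz1⟩ := CfsgLib.GammaRankOne.exists_mem_center_of_ne_bot hM (U.subgroupOf π.ker)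
    (fun h => hne (eq_bot_iff.2 fun x hx => mem_bot.2 (by
      have h1 : (⟨x, hU hx⟩ : π.ker) ∈ U.subgroupOf π.ker := mem_subgroupOf.2 hx
      rw [h, mem_bot] at h1
      exact congrArg Subtype.val h1)))
  have hZ : Z = U := by
    refine hmin Z hZn inf_le_left fun h => hz1 (Subtype.ext ?_)
    have : (z : G) ∈ Z := ⟨mem_subgroupOf.1 hzU, mem_centralizer_iff.2 fun m hm =>
      congrArg Subtype.val (mem_center_iff.1 hzc ⟨m, hm⟩)⟩
    exact mem_bot.1 (h ▸ this)
  have hcen : ∀ m ∈ π.ker, ∀ w ∈ U, m * w = w * m := fun m hm w hw =>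
    mem_centralizer_iff.1 (hZ.symm ▸ hw : w ∈ Z).2 m hm
  let T : Subgroup G :=
    { carrier := {w | w ∈ U ∧ w * w = 1}
      one_mem' := ⟨one_mem _, one_mul 1⟩
      mul_mem' := fun {a b} ha hb => ⟨mul_mem ha.1 hb.1, by
        rw [show a * b * (a * b) = a * (b * a) * b by group, hcen b (hU hb.1) a ha.1,
          show a * (a * b) * b = (a * a) * (b * b) by group, ha.2, hb.2, one_mul]⟩
      inv_mem' := fun {a} ha => ⟨inv_mem ha.1, by rw [← mul_inv_rev, ha.2, inv_one]⟩ }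
  have hTn : T.Normal := ⟨fun w hw g => ⟨Normal.conj_mem ‹_› w hw.1 g, by
    rw [conj_mul, hw.2, mul_one, mul_inv_cancel]⟩⟩
  obtain ⟨k, hk⟩ := (hM.to_le hU).exists_card_eq
  have hk0 : k ≠ 0 := fun h => hne (card_eq_one.1 (by rw [hk, h, pow_zero]))
  obtain ⟨t, ht⟩ := exists_prime_orderOf_dvd_card' 2 (hk ▸ dvd_pow_self 2 hk0)
  have hT : T = U := by
    refine hmin T hTn (fun w hw => hw.1) fun h => ?_
    have h2 : (t : G) * t = 1 := by
      rw [← pow_two, ← ht, ← orderOf_coe, pow_orderOf_eq_one]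
    have : (t : G) ∈ T := ⟨t.2, h2⟩
    rw [h, mem_bot] at this
    have ht' : t = 1 := Subtype.ext this
    rw [ht', orderOf_one] at ht
    omega
  exact ⟨hcen, fun w hw => (hT.symm ▸ hw : w ∈ T).2⟩

/-- Such a subgroup has order two and is fixed, or has order sixteen and a faithful action. -/
theorem minimal_cases (hπ : Function.Surjective π) (U : Subgroup G) [U.Normal] (hU : U ≤ π.ker)
    (hne : U ≠ ⊥) (hmin : ∀ N : Subgroup G, N.Normal → N ≤ U → N ≠ ⊥ → N = U)
    (hc : ∀ m ∈ π.ker, ∀ w ∈ U, m * w = w * m) (h2 : ∀ w ∈ U, w * w = 1) (hsec : SecLE G) :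
    (Nat.card U = 2 ∧ ∀ g, ∀ w ∈ U, g * w = w * g) ∨
      (Nat.card U = 16 ∧ (∃ g, ∃ w ∈ U, g * w ≠ w * g) ∧ ∀ w ∈ U, (∀ g, g * w = w * g) → w = 1) := by
  obtain ⟨V, iV, iF, σ, j, hj, hjU, hcard, hσ⟩ := exists_central_action π hπ U hU hc
  have hle := hsec.card_le U h2
  have hfixiff : σ = 1 → ∀ g, ∀ w ∈ U, g * w = w * g := by
    intro h g w hw
    obtain ⟨u, rfl⟩ := (hjU w).1 hw
    have := hσ g u
    rw [h, MonoidHom.one_apply, MulAut.one_apply, eq_mul_inv_iff_mul_eq] at this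
    exact this.symm
  by_cases h : σ = 1
  · refine Or.inl ⟨?_, hfixiff h⟩
    obtain ⟨w, hw, hw1⟩ := (bot_or_exists_ne_one U).resolve_left hne
    have hn : (pair w (h2 w hw)).Normal := ⟨fun x hx g => by
      rcases hx with rfl | rfl
      · rw [mul_one, mul_inv_cancel]; exact one_mem _
      · rw [hfixiff h g x hw, mul_inv_cancel_right]; exact Or.inr rfl⟩
    have hp := hmin _ hn (fun x hx => by rcases hx with rfl | rfl; exacts [one_mem _, hw])
      (fun hb => hw1 (mem_bot.1 (hb ▸ (Or.inr rfl : w ∈ pair w (h2 w hw)))))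
    rw [← hp]
    exact card_pair hw1
  · haveI : Fact (Nat.Prime 2) := ⟨Nat.prime_two⟩
    have hV2 : ∀ v : V, v * v = 1 := fun v => hj (by rw [map_mul, map_one, h2 _ ((hjU _).2 ⟨v, rfl⟩)])
    have hp : IsPGroup 2 V := fun v => ⟨1, by rw [pow_one, pow_two, hV2]⟩
    obtain ⟨k, hk⟩ := hp.exists_card_eq
    have hk4 : k ≤ 4 := (Nat.pow_le_pow_iff_right (le_refl 2)).1 (by rw [← hk, hcard]; exact hle)
    have hk' : k = 4 := by
      by_contra hk'
      obtain ⟨f, hf5, hf1⟩ := exists_five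
      haveI : Fact (Nat.Prime 5) := ⟨by norm_num⟩
      have hmod := card_fixed_modEq (p := 5) (σ f) (by rw [← map_pow, hf5, map_one]) ⊤ (fun v => by simp)
      rw [top_inf_eq, card_top, hk] at hmod
      have hd : Nat.card (fixed (σ f)) ∣ 2 ^ k := hk ▸ card_subgroup_dvd_card _
      obtain ⟨i, hi, hi'⟩ := (Nat.dvd_prime_pow Nat.prime_two).1 hd
      rw [hi'] at hmod
      have hik : i = k := by
        have hk3 : k ≤ 3 := by omega
        interval_cases k <;> interval_cases i <;> first | rfl | exact absurd hmod (by decide)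
      refine hf1 (injective_of_ne_one σ h ?_)
      have htop : fixed (σ f) = ⊤ := eq_top_of_card_eq _ (by rw [hi', hk, hik])
      rw [map_one]
      exact MulEquiv.ext fun w => mem_fixed.1 (htop ▸ mem_top w : w ∈ fixed (σ f))
    have h16 : Nat.card V = 16 := by rw [hk, hk']; norm_num
    refine Or.inr ⟨hcard ▸ h16, ?_, fun w hw hfix => ?_⟩
    · by_contra hcon
      push Not at hcon
      refine h (MonoidHom.ext fun a => MulEquiv.ext fun u => hj ?_)
      obtain ⟨g, rfl⟩ := hπ a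
      rw [hσ, MonoidHom.one_apply, MulAut.one_apply, hcon g _ ((hjU _).2 ⟨u, rfl⟩), mul_inv_cancel_right]
    · obtain ⟨u, rfl⟩ := (hjU w).1 hw
      rw [eq_one_of_fixed_all h16 σ h (v := u) fun a => hj (by
        obtain ⟨g, rfl⟩ := hπ a
        rw [hσ, hfix g, mul_inv_cancel_right]), map_one]

/-- There is no room below the first layer. -/
theorem no_second_layer (F U : Subgroup G) [U.Normal] (L : Layer π F) (hsec : SecLE G) (hUF : U ≤ F)
    (hidx : U.relIndex F = 2) (hU : U ≠ ⊥)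
    (hmin : ∀ N : Subgroup G, N.Normal → N ≤ U → N ≠ ⊥ → N = U)
    (hc : ∀ m ∈ π.ker, ∀ w ∈ U, m * w = w * m) (h2 : ∀ w ∈ U, w * w = 1)
    (hgen : F ≤ closure {x | ∃ m ∈ π.ker, m * m = x}) : False := by
  haveI := L.normal
  obtain ⟨z, hzF, hzU⟩ : ∃ z ∈ F, z ∉ U := SetLike.not_le_iff_exists.1 fun h => by
    rw [relIndex_eq_one.2 h] at hidx; omega
  have hzM := L.le hzF
  have hcoset : ∀ f ∈ F, f ∈ U ∨ z⁻¹ * f ∈ U := by
    intro f hf
    by_cases h : f ∈ U
    · exact Or.inl h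
    refine Or.inr ?_
    have hzi : (⟨z, hzF⟩ : F)⁻¹ ∉ U.subgroupOf F := fun h' => hzU (inv_mem_iff.1 (mem_subgroupOf.1 h'))
    exact mem_subgroupOf.1 ((mul_mem_iff_of_index_two hidx).2
      ⟨fun h' => absurd h' hzi, fun h' => absurd (mem_subgroupOf.1 h') h⟩ :
      (⟨z, hzF⟩ : F)⁻¹ * ⟨f, hf⟩ ∈ U.subgroupOf F)
  have hFab : ∀ a ∈ F, ∀ b ∈ F, a * b = b * a := by
    have hzc : ∀ b ∈ F, z * b = b * z := by
      intro b hb
      rcases hcoset b hb with h | h
      · exact hc z hzM b h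
      · calc z * b = z * (z * (z⁻¹ * b)) := by group
          _ = z * ((z⁻¹ * b) * z) := by rw [hc z hzM _ h]
          _ = b * z := by group
    intro a ha b hb
    rcases hcoset a ha with h | h
    · exact (hc b (L.le hb) a h).symm
    · calc a * b = z * ((z⁻¹ * a) * b) := by group
        _ = z * (b * (z⁻¹ * a)) := by rw [hc b (L.le hb) _ h]
        _ = (z * b) * (z⁻¹ * a) := by group
        _ = b * a := by rw [hzc b hb]; group
  have hz2 : z * z ∈ U := mem_subgroupOf.1 (mul_self_mem_of_index_two hidx (⟨z, hzF⟩ : F))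
  have hzconj : ∀ g, z⁻¹ * (g * z * g⁻¹) ∈ U := by
    intro g
    refine (hcoset _ (Normal.conj_mem L.normal z hzF g)).resolve_left fun h => hzU ?_
    have := Normal.conj_mem ‹U.Normal› _ h g⁻¹
    rwa [inv_inv, show g⁻¹ * (g * z * g⁻¹) * g = z by group] at this
  have hsqF : ∀ f ∈ F, f * f = 1 ∨ f * f = z * z := by
    intro f hf
    rcases hcoset f hf with h | h
    · exact Or.inl (h2 f h)
    · refine Or.inr ?_
      calc f * f = z * ((z⁻¹ * f) * z) * (z⁻¹ * f) := by group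
        _ = z * (z * (z⁻¹ * f)) * (z⁻¹ * f) := by rw [hc z hzM _ h]
        _ = z * z * ((z⁻¹ * f) * (z⁻¹ * f)) := by group
        _ = z * z := by rw [h2 _ h, mul_one]
  have hzfix : ∀ g, g * (z * z) = z * z * g := by
    intro g
    have e : g * (z * z) * g⁻¹ = g * z * g⁻¹ * (g * z * g⁻¹) := by group
    rw [← mul_inv_eq_iff_eq_mul, e]
    have hw := hzconj g
    calc g * z * g⁻¹ * (g * z * g⁻¹) = z * ((z⁻¹ * (g * z * g⁻¹)) * z) * (z⁻¹ * (g * z * g⁻¹)) := by group
      _ = z * (z * (z⁻¹ * (g * z * g⁻¹))) * (z⁻¹ * (g * z * g⁻¹)) := by rw [hc z hzM _ hw]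
      _ = z * z * ((z⁻¹ * (g * z * g⁻¹)) * (z⁻¹ * (g * z * g⁻¹))) := by group
      _ = z * z := by rw [h2 _ hw, mul_one]
  have hFcard : Nat.card F = 2 * Nat.card U := by
    have h := relIndex_mul_relIndex (⊥ : Subgroup G) U F bot_le hUF
    rw [relIndex_bot_left, relIndex_bot_left, hidx] at h
    omega
  rcases minimal_cases L.surj U (hUF.trans L.le) hU hmin hc h2 hsec with ⟨hU2, hUfix⟩ | ⟨hU16, -, hfix⟩
  swap
  · have hz : z * z = 1 := hfix _ hz2 hzfix
    have := hsec.card_le F fun f hf => (hsqF f hf).elim id fun h => h.trans hz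
    omega
  -- the element outside is fixed
  let d : π.ker →* U := MonoidHom.mk' (fun m => ⟨z⁻¹ * ((m : G) * z * (m : G)⁻¹), hzconj m⟩) fun a b => by
    refine Subtype.ext ?_
    show z⁻¹ * ((a : G) * b * z * ((a : G) * b)⁻¹) = z⁻¹ * ((a : G) * z * (a : G)⁻¹) * (z⁻¹ * ((b : G) * z * (b : G)⁻¹))
    calc z⁻¹ * ((a : G) * b * z * ((a : G) * b)⁻¹)
        = z⁻¹ * ((a : G) * z * (a : G)⁻¹) * ((a : G) * (z⁻¹ * ((b : G) * z * (b : G)⁻¹)) * (a : G)⁻¹) := by group
      _ = z⁻¹ * ((a : G) * z * (a : G)⁻¹) * (z⁻¹ * ((b : G) * z * (b : G)⁻¹)) := by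
        rw [hUfix a _ (hzconj b), mul_inv_cancel_right]
  have hd := L.hom_trivial hU2.le d (fun m hm => Subtype.ext (by
      show z⁻¹ * ((m : G) * z * (m : G)⁻¹) = 1
      rw [hFab _ hm z hzF]; group)) (fun g m => Subtype.ext (by
      show z⁻¹ * (((MulAut.conjNormal g m : π.ker) : G) * z * ((MulAut.conjNormal g m : π.ker) : G)⁻¹) =
        z⁻¹ * ((m : G) * z * (m : G)⁻¹)
      rw [MulAut.conjNormal_apply]
      have hw := hzconj g⁻¹
      rw [inv_inv] at hw
      set u := z⁻¹ * (g⁻¹ * z * g) with hu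
      have e : g⁻¹ * z * g = z * u := by rw [hu]; group
      calc z⁻¹ * (g * (m : G) * g⁻¹ * z * (g * (m : G) * g⁻¹)⁻¹)
          = z⁻¹ * (g * ((m : G) * (g⁻¹ * z * g) * (m : G)⁻¹) * g⁻¹) := by group
        _ = z⁻¹ * (g * ((m : G) * z * (u * (m : G)⁻¹)) * g⁻¹) := by rw [e]; group
        _ = z⁻¹ * (g * ((m : G) * z * ((m : G)⁻¹ * u)) * g⁻¹) := by rw [(hUfix (m : G)⁻¹ u hw)]
        _ = z⁻¹ * (g * (z * (z⁻¹ * ((m : G) * z * (m : G)⁻¹)) * u) * g⁻¹) := by group
        _ = z⁻¹ * (g * (z * (u * (z⁻¹ * ((m : G) * z * (m : G)⁻¹)))) * g⁻¹) := by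
          rw [mul_assoc z, hUfix _ u hw]
        _ = z⁻¹ * (g * (z * u) * g⁻¹) * (g * (z⁻¹ * ((m : G) * z * (m : G)⁻¹)) * g⁻¹) := by group
        _ = z⁻¹ * ((m : G) * z * (m : G)⁻¹) := by
          rw [← e, hUfix g _ (hzconj m), mul_inv_cancel_right]; group))
  have hzker : ∀ m ∈ π.ker, m * z = z * m := by
    intro m hm
    have h0 := congrArg Subtype.val (DFunLike.congr_fun hd (⟨m, hm⟩ : π.ker))
    have h : z⁻¹ * (m * z * m⁻¹) = 1 := h0
    rwa [inv_mul_eq_one, eq_mul_inv_iff_mul_eq, eq_comm] at h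
  let χ : G →* U := MonoidHom.mk' (fun g => ⟨z⁻¹ * (g * z * g⁻¹), hzconj g⟩) fun a b => by
    refine Subtype.ext ?_
    show z⁻¹ * (a * b * z * (a * b)⁻¹) = z⁻¹ * (a * z * a⁻¹) * (z⁻¹ * (b * z * b⁻¹))
    calc z⁻¹ * (a * b * z * (a * b)⁻¹)
        = z⁻¹ * (a * z * a⁻¹) * (a * (z⁻¹ * (b * z * b⁻¹)) * a⁻¹) := by group
      _ = z⁻¹ * (a * z * a⁻¹) * (z⁻¹ * (b * z * b⁻¹)) := by rw [hUfix a _ (hzconj b), mul_inv_cancel_right]
  have hχker : π.ker ≤ χ.ker := fun m hm => MonoidHom.mem_ker.2 (Subtype.ext (by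
    show z⁻¹ * (m * z * m⁻¹) = 1
    rw [hzker m hm]; group))
  let χ' : A₅ →* U := π.liftOfSurjective L.surj ⟨χ, hχker⟩
  have hχ' : χ' = 1 := by
    haveI : IsSimpleGroup A₅ := alternatingGroup.isSimpleGroup_five
    rcases (inferInstance : χ'.ker.Normal).eq_bot_or_eq_top with h | h
    · exfalso
      have h' := Nat.card_le_card_of_injective χ' ((MonoidHom.ker_eq_bot_iff χ').1 h)
      have h60 : Nat.card A₅ = 60 := by
        rw [nat_card_alternatingGroup, Nat.card_eq_fintype_card, Fintype.card_fin]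
        rfl
      omega
    · exact MonoidHom.ext fun g => MonoidHom.mem_ker.1 (h ▸ mem_top g : g ∈ χ'.ker)
  have hFfix : ∀ g, ∀ f ∈ F, g * f = f * g := by
    have hz : ∀ g, g * z = z * g := by
      intro g
      have h : χ g = 1 := by
        rw [← π.liftOfRightInverse_comp_apply _ (Function.rightInverse_surjInv L.surj) ⟨χ, hχker⟩ g]
        exact DFunLike.congr_fun hχ' (π g)
      have h' : z⁻¹ * (g * z * g⁻¹) = 1 := congrArg Subtype.val h
      rwa [inv_mul_eq_one, eq_mul_inv_iff_mul_eq, eq_comm] at h'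
    intro g f hf
    rcases hcoset f hf with h | h
    · exact hUfix g f h
    · calc g * f = g * z * (z⁻¹ * f) := by group
        _ = z * (g * (z⁻¹ * f)) := by rw [hz g]; group
        _ = z * ((z⁻¹ * f) * g) := by rw [hUfix g _ h]
        _ = f * g := by group
  -- fourth powers
  have hz4 : z * z * (z * z) = 1 := h2 _ hz2
  have h4U : ∀ m ∈ π.ker, m * m * (m * m) ∈ U := by
    intro m hm
    rcases hsqF _ (L.sq_mem m hm) with h | h <;> rw [h]
    exacts [one_mem _, hz2]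
  let e : π.ker →* U := MonoidHom.mk' (fun m => ⟨(m : G) * m * ((m : G) * m), h4U m m.2⟩) fun a b => by
    refine Subtype.ext ?_
    show (a : G) * b * (a * b) * ((a : G) * b * (a * b)) = (a : G) * a * ((a : G) * a) * ((b : G) * b * ((b : G) * b))
    have ha := L.sq_mem a a.2
    have hb := L.sq_mem b b.2
    have hab := L.sq_mem _ (mul_mem a.2 b.2)
    set c := (a : G) * b * (a * b) * ((a : G) * a)⁻¹ * ((b : G) * b)⁻¹ with hcdef
    have hcF : c ∈ F := mul_mem (mul_mem hab (inv_mem ha)) (inv_mem hb)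
    have hbc : c = (b : G) * a * (b : G)⁻¹ * (a : G)⁻¹ := by
      rw [hcdef]
      calc (a : G) * b * (a * b) * ((a : G) * a)⁻¹ * ((b : G) * b)⁻¹
          = (a : G) * b * (a * b) * (((a : G) * a)⁻¹ * ((b : G) * b)⁻¹) := by group
        _ = (a : G) * b * (a * b) * (((b : G) * b)⁻¹ * ((a : G) * a)⁻¹) := by
          rw [hFab _ (inv_mem ha) _ (inv_mem hb)]
        _ = (a : G) * ((b : G) * a * (b : G)⁻¹ * (a : G)⁻¹) * (a : G)⁻¹ := by group
        _ = (b : G) * a * (b : G)⁻¹ * (a : G)⁻¹ := by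
          have hm : (b : G) * a * (b : G)⁻¹ * (a : G)⁻¹ ∈ F := by
            have h1 : (b : G) * a * (b : G)⁻¹ * (a : G)⁻¹ =
                ((b : G) * a) * ((b : G) * a) * ((a : G)⁻¹ * ((b : G) * b)⁻¹ * a) * ((a : G) * a)⁻¹ := by group
            rw [h1]
            refine mul_mem (mul_mem (L.sq_mem _ (mul_mem b.2 a.2)) ?_) (inv_mem ha)
            simpa using Normal.conj_mem L.normal _ (inv_mem hb) (a : G)⁻¹
          rw [hFfix (a : G) _ hm, mul_inv_cancel_right]
    have hc2 : c * c = 1 := by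
      rw [hbc]
      calc (b : G) * a * (b : G)⁻¹ * (a : G)⁻¹ * ((b : G) * a * (b : G)⁻¹ * (a : G)⁻¹)
          = (b : G) * a * (b : G)⁻¹ * ((a : G)⁻¹ * c) := by rw [hbc]; group
        _ = (b : G) * a * (b : G)⁻¹ * (c * (a : G)⁻¹) := by rw [hFfix _ c hcF]
        _ = (b : G) * ((a : G) * a) * (b : G)⁻¹ * ((a : G) * a)⁻¹ := by rw [hbc]; group
        _ = 1 := by rw [hFfix (b : G) _ ha, mul_inv_cancel_right, mul_inv_cancel]
    have hsq : (a : G) * b * (a * b) = c * ((b : G) * b) * ((a : G) * a) := by rw [hcdef]; group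
    rw [hsq]
    calc c * ((b : G) * b) * ((a : G) * a) * (c * ((b : G) * b) * ((a : G) * a))
        = c * (((b : G) * b) * ((a : G) * a) * c) * (((b : G) * b) * ((a : G) * a)) := by group
      _ = c * (c * (((b : G) * b) * ((a : G) * a))) * (((b : G) * b) * ((a : G) * a)) := by
        rw [hFfix _ c hcF]
      _ = (c * c) * (((b : G) * b) * ((a : G) * a) * (((b : G) * b) * ((a : G) * a))) := by group
      _ = ((b : G) * b) * (((a : G) * a) * ((b : G) * b)) * ((a : G) * a) := by rw [hc2]; group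
      _ = ((b : G) * b) * (((b : G) * b) * ((a : G) * a)) * ((a : G) * a) := by rw [hFab _ ha _ hb]
      _ = (((b : G) * b) * ((b : G) * b)) * (((a : G) * a) * ((a : G) * a)) := by group
      _ = (a : G) * a * ((a : G) * a) * ((b : G) * b * ((b : G) * b)) :=
        hFab _ (mul_mem hb hb) _ (mul_mem ha ha)
  have he := L.hom_trivial hU2.le e (fun m hm => Subtype.ext (by
      show (m : G) * m * ((m : G) * m) = 1
      rcases hsqF _ hm with h | h <;> rw [h]
      exacts [one_mul 1, hz4])) (fun g m => Subtype.ext (by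
      show ((MulAut.conjNormal g m : π.ker) : G) * _ * (_ * _) = _
      rw [MulAut.conjNormal_apply]
      calc g * (m : G) * g⁻¹ * (g * (m : G) * g⁻¹) * (g * (m : G) * g⁻¹ * (g * (m : G) * g⁻¹))
          = g * ((m : G) * m * ((m : G) * m)) * g⁻¹ := by group
        _ = (m : G) * m * ((m : G) * m) := by rw [hUfix g _ (h4U m m.2), mul_inv_cancel_right]))
  have hF2 : ∀ f ∈ F, f * f = 1 := by
    intro f hf
    suffices f ∈ F ∧ f * f = 1 from this.2
    have hfc := hgen hf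
    clear hf
    induction hfc using closure_induction with
    | mem x hx =>
      obtain ⟨m, hm, rfl⟩ := hx
      have h0 := congrArg Subtype.val (DFunLike.congr_fun he (⟨m, hm⟩ : π.ker))
      exact ⟨L.sq_mem m hm, h0⟩
    | one => exact ⟨one_mem _, one_mul 1⟩
    | mul x y _ _ hx hy =>
      refine ⟨mul_mem hx.1 hy.1, ?_⟩
      rw [show x * y * (x * y) = x * (y * x) * y by group, hFab y hy.1 x hx.1,
        show x * (x * y) * y = (x * x) * (y * y) by group, hx.2, hy.2, one_mul]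
    | inv x _ hx => exact ⟨inv_mem hx.1, by rw [← mul_inv_rev, hx.2, inv_one]⟩
  obtain ⟨k, hk, hsq, -⟩ := CentralLayer.trivial_case
    { toLayer := L, sq_one := hF2, central := fun m _ f hf => hFfix m f hf } hFfix
  have hle : F ≤ pair k (hF2 k hk) := by
    refine hgen.trans ((closure_le _).2 ?_)
    rintro x ⟨m, hm, rfl⟩
    exact hsq m hm
  have h1 := card_le_of_le hle
  have h3 : Nat.card (pair k (hF2 k hk)) ≤ 2 := card_pair_le
  omega

end CfsgLib.RankFourAltFive
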