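import Cfsg.Agent.Lib.InvChar.RankFourAltFive.Facts
import Cfsg.Agent.Lib.InvChar.RankFourAltFive.Facts2

/-!
# Equivariant quadratic maps between modules of order sixteen for the alternating group of degree five

All modules are written multiplicatively: commutative groups of exponent two with an action by
automorphisms.
-/

set_option autoImplicit false

open Subgroup

namespace CfsgLib.RankFourAltFive

local notation "A₅" => alternatingGroup (Fin 5)

section Fix

variable {V : Type*} [CommGroup V] [Finite V]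

/-- The fixed points of an automorphism. -/
def fixed (φ : MulAut V) : Subgroup V := φ.toMonoidHom.eqLocus (MonoidHom.id V)

theorem mem_fixed {φ : MulAut V} {v : V} : v ∈ fixed φ ↔ φ v = v := Iff.rfl

theorem card_fixed_modEq {p : ℕ} [Fact p.Prime] (φ : MulAut V) (h : φ ^ p = 1)
    (S : Subgroup V) (hS : ∀ v, φ v ∈ S ↔ v ∈ S) :
    Nat.card S ≡ Nat.card ↥(S ⊓ fixed φ) [MOD p] := by
  classical
  let σ : Function.End S := fun v => ⟨φ v.1, (hS v.1).2 v.2⟩
  have hpow : ∀ (n : ℕ) (v : S), (((σ ^ n) v : S) : V) = (φ ^ n) v := by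
    intro n
    induction n with
    | zero => intro v; rfl
    | succ n ih => intro v; rw [pow_succ', pow_succ', MulAut.mul_apply, ← ih v]; rfl
  have hσ : σ ^ p ^ 1 = 1 := by
    refine funext fun v => Subtype.ext ?_
    rw [pow_one, hpow, h]
    rfl
  haveI := Fintype.ofFinite S
  have h2 := Equiv.Perm.card_fixedPoints_modEq (p := p) (n := 1) hσ
  let e : Function.fixedPoints σ ≃ ↥(S ⊓ fixed φ) :=
    { toFun := fun v => ⟨v.1.1, v.1.2, congrArg Subtype.val v.2⟩
      invFun := fun v => ⟨⟨v.1, v.2.1⟩, Subtype.ext v.2.2⟩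
      left_inv := fun v => rfl
      right_inv := fun v => rfl }
  rw [← Nat.card_congr e, Nat.card_eq_fintype_card, Nat.card_eq_fintype_card]
  exact h2

theorem card_dvd_sixteen (hcard : Nat.card V = 16) (S : Subgroup V) :
    Nat.card S = 1 ∨ Nat.card S = 2 ∨ Nat.card S = 4 ∨ Nat.card S = 8 ∨ Nat.card S = 16 := by
  have h : Nat.card S ∣ 16 := hcard ▸ card_subgroup_dvd_card S
  have h' : Nat.card S ∈ Nat.divisors 16 := Nat.mem_divisors.2 ⟨h, by norm_num⟩
  have he : Nat.divisors 16 = {1, 2, 4, 8, 16} := by decide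
  rw [he] at h'
  simpa using h'

end Fix

section Module

variable {V : Type*} [CommGroup V] [Finite V] (hcard : Nat.card V = 16)
variable (ρ : A₅ →* MulAut V) (hρ : ρ ≠ 1)

/-- No element of order three has a nontrivial fixed point. -/
def IsNatural : Prop := ∀ g : A₅, g ^ 3 = 1 → g ≠ 1 → ∀ v : V, ρ g v = v → v = 1

omit [Finite V] in
include hρ in
theorem injective_of_ne_one : Function.Injective ρ := by
  haveI : IsSimpleGroup A₅ := alternatingGroup.isSimpleGroup_five
  rcases (inferInstance : ρ.ker.Normal).eq_bot_or_eq_top with h | h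
  · exact (MonoidHom.ker_eq_bot_iff ρ).1 h
  · exact absurd (MonoidHom.ext fun g => MonoidHom.mem_ker.1 (h ▸ mem_top g : g ∈ ρ.ker)) hρ

include hcard hρ

theorem fix_five {g : A₅} (hg : g ^ 5 = 1) (hg1 : g ≠ 1) {v : V} (hv : ρ g v = v) : v = 1 := by
  haveI : Fact (Nat.Prime 5) := ⟨by norm_num⟩
  have h := card_fixed_modEq (p := 5) (ρ g) (by rw [← map_pow, hg, map_one]) ⊤ (fun v => by simp)
  rw [top_inf_eq, card_top, hcard] at h
  rcases card_dvd_sixteen hcard (fixed (ρ g)) with hc | hc | hc | hc | hc <;> rw [hc] at h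
  · exact (eq_bot_iff_card _).2 hc ▸ (mem_fixed.2 hv) |> mem_bot.1
  · exact absurd h (by decide)
  · exact absurd h (by decide)
  · exact absurd h (by decide)
  · exfalso
    refine hg1 (injective_of_ne_one ρ hρ ?_)
    have htop : fixed (ρ g) = ⊤ := eq_top_of_card_eq _ (hc.trans hcard.symm)
    rw [map_one]
    exact MulEquiv.ext fun w => mem_fixed.1 (htop ▸ mem_top w : w ∈ fixed (ρ g))

theorem fix_two_three {d d' : A₅} (h5 : (d * d') ^ 5 = 1) (h51 : d * d' ≠ 1) :
    fixed (ρ d) ⊓ fixed (ρ d') = ⊥ := by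
  rw [eq_bot_iff]
  rintro v ⟨hv, hv'⟩
  refine mem_bot.2 (fix_five hcard ρ hρ h5 h51 ?_)
  rw [map_mul, MulAut.mul_apply, mem_fixed.1 hv', mem_fixed.1 hv]

theorem card_fixed_three_le {d : A₅} (hd : d ^ 3 = 1) (hd1 : d ≠ 1) :
    Nat.card (fixed (ρ d)) = 1 ∨ Nat.card (fixed (ρ d)) = 4 := by
  obtain ⟨d', hd', hd'1, h5, h51⟩ := exists_five_of_three' d hd hd1
  haveI : Fact (Nat.Prime 3) := ⟨by norm_num⟩
  have hmod : ∀ e : A₅, e ^ 3 = 1 → 16 ≡ Nat.card (fixed (ρ e)) [MOD 3] := fun e he => by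
    have h := card_fixed_modEq (p := 3) (ρ e) (by rw [← map_pow, he, map_one]) ⊤ (fun v => by simp)
    rwa [top_inf_eq, card_top, hcard] at h
  have h := hmod d hd
  rcases card_dvd_sixteen hcard (fixed (ρ d)) with hc | hc | hc | hc | hc <;> rw [hc] at h
  · exact Or.inl hc
  · exact absurd h (by decide)
  · exact Or.inr hc
  · exact absurd h (by decide)
  · exfalso
    refine hd1 (injective_of_ne_one ρ hρ ?_)
    have htop : fixed (ρ d) = ⊤ := eq_top_of_card_eq _ (hc.trans hcard.symm)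
    rw [map_one]
    exact MulEquiv.ext fun w => mem_fixed.1 (htop ▸ mem_top w : w ∈ fixed (ρ d))

theorem eq_top_of_invariant {S : Subgroup V} (hS : ∀ g v, v ∈ S → ρ g v ∈ S) (hne : S ≠ ⊥) : S = ⊤ := by
  haveI : Fact (Nat.Prime 5) := ⟨by norm_num⟩
  obtain ⟨d, hd, -, hdi⟩ := exists_three_moving 0 1 (by decide)
  obtain ⟨t, -, -, h5, h51⟩ := exists_five_of_three 0 d hd hdi
  have hS' : ∀ v, ρ (t * d) v ∈ S ↔ v ∈ S := fun v => by
    refine ⟨fun h => ?_, hS _ v⟩
    have h' := hS (t * d)⁻¹ _ h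
    rwa [map_inv, MulAut.inv_apply_self] at h'
  have h := card_fixed_modEq (p := 5) (ρ (t * d)) (by rw [← map_pow, h5, map_one]) S hS'
  have hb : S ⊓ fixed (ρ (t * d)) = ⊥ :=
    eq_bot_iff.2 fun v hv => mem_bot.2 (fix_five hcard ρ hρ h5 h51 (mem_fixed.1 hv.2))
  rw [hb, card_bot] at h
  rcases card_dvd_sixteen hcard S with hc | hc | hc | hc | hc <;> rw [hc] at h
  · exact absurd ((eq_bot_iff_card _).2 hc) hne
  · exact absurd h (by decide)
  · exact absurd h (by decide)
  · exact absurd h (by decide)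
  · exact eq_top_of_card_eq _ (hc.trans hcard.symm)

theorem eq_one_of_fixed_all {v : V} (hv : ∀ g, ρ g v = v) : v = 1 := by
  obtain ⟨d, hd, -, hdi⟩ := exists_three_moving 0 1 (by decide)
  obtain ⟨t, -, -, h5, h51⟩ := exists_five_of_three 0 d hd hdi
  exact fix_five hcard ρ hρ h5 h51 (hv _)

/-- A vector fixed by no element of order three has the whole set of nontrivial vectors as orbit. -/
theorem transitive_of_no_three {v : V} (hv : v ≠ 1)
    (h3 : ∀ g : A₅, g ^ 3 = 1 → g ≠ 1 → ρ g v ≠ v) {w : V} (hw : w ≠ 1) : ∃ g, ρ g v = w := by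
  classical
  letI : MulAction A₅ V := MulAction.compHom V ρ
  haveI : Fact (Nat.Prime 2) := ⟨Nat.prime_two⟩
  set H := MulAction.stabilizer A₅ v with hH
  have hH2 : IsPGroup 2 H := by
    rintro ⟨g, hg⟩
    refine ⟨1, Subtype.ext ?_⟩
    have hg' : ρ g v = v := MulAction.mem_stabilizer_iff.1 hg
    rcases order_cases g with h | h | h
    · simpa using h
    · by_cases h1 : g = 1
      · simp [h1]
      · exact absurd hg' (h3 g h h1)
    · by_cases h1 : g = 1
      · simp [h1]
      · exact absurd (fix_five hcard ρ hρ h h1 hg') hv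
  obtain ⟨n, hn⟩ := hH2.exists_card_eq
  have h60 : Nat.card A₅ = 60 := by
    rw [nat_card_alternatingGroup, Nat.card_eq_fintype_card, Fintype.card_fin]
    rfl
  have hmul := card_mul_index H
  rw [h60, hn] at hmul
  have hn2 : n ≤ 2 := by
    by_contra hlt
    have : 2 ^ 3 ∣ 60 := dvd_trans (pow_dvd_pow 2 (by omega : 3 ≤ n)) ⟨_, hmul.symm⟩
    norm_num at this
  have hidx : 15 ≤ H.index := by
    interval_cases n <;> omega
  have horb : Nat.card (MulAction.orbit A₅ v) = H.index := by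
    rw [hH, Subgroup.index, Nat.card_congr (MulAction.orbitEquivQuotientStabilizer A₅ v)]
  by_contra hcon
  push Not at hcon
  haveI := Fintype.ofFinite V
  have hsub : MulAction.orbit A₅ v ⊆ ({1, w} : Set V)ᶜ := by
    rintro x ⟨g, rfl⟩
    change ρ g v ∈ ({1, w} : Set V)ᶜ
    simp only [Set.mem_compl_iff, Set.mem_insert_iff, Set.mem_singleton_iff, not_or]
    exact ⟨fun h => hv ((ρ g).map_eq_one_iff.1 h), hcon g⟩
  have hle := Set.ncard_le_ncard hsub (Set.toFinite _)
  rw [Set.ncard_compl ({1, w} : Set V) (Set.toFinite _), Set.ncard_pair hw.symm, hcard, ← Nat.card_coe_set_eq, horb] at hle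
  omega

theorem not_natural_all (hn : ¬ IsNatural ρ) {d : A₅} (hd : d ^ 3 = 1) (hd1 : d ≠ 1) :
    Nat.card (fixed (ρ d)) = 4 := by
  rcases card_fixed_three_le hcard ρ hρ hd hd1 with h | h
  swap; · exact h
  exfalso
  apply hn
  intro g hg hg1 v hv
  have hb : fixed (ρ d) = ⊥ := (eq_bot_iff_card _).2 h
  obtain ⟨c, hc | hc⟩ := conj_three g d hg hg1 hd hd1
  · have : ρ c v ∈ fixed (ρ d) := mem_fixed.2 (by rw [← MulAut.mul_apply, ← map_mul, ← hc, map_mul, MulAut.mul_apply, hv])
    exact (ρ c).map_eq_one_iff.1 (mem_bot.1 (hb ▸ this))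
  · have hv' : ρ g⁻¹ v = v := by conv_lhs => rw [← hv]; rw [map_inv, MulAut.inv_apply_self]
    have : ρ c v ∈ fixed (ρ d) := mem_fixed.2 (by rw [← MulAut.mul_apply, ← map_mul, ← hc, map_mul, MulAut.mul_apply, hv'])
    exact (ρ c).map_eq_one_iff.1 (mem_bot.1 (hb ▸ this))

theorem exists_fixed_stab (hn : ¬ IsNatural ρ) (i : Fin 5) :
    ∃ w : V, w ≠ 1 ∧ ∀ g : A₅, (g : Equiv.Perm (Fin 5)) i = i → ρ g w = w := by
  classical
  haveI : Fact (Nat.Prime 2) := ⟨Nat.prime_two⟩
  letI : MulAction A₅ V := MulAction.compHom V ρ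
  let T : Subgroup A₅ :=
    { carrier := {t | (t : Equiv.Perm (Fin 5)) i = i ∧ t ^ 2 = 1}
      one_mem' := ⟨rfl, one_pow 2⟩
      mul_mem' := fun {a b} ha hb => ⟨by simp [ha.1, hb.1], four_mul i a b ha.2 ha.1 hb.2 hb.1⟩
      inv_mem' := fun {a} ha => by
        have h : a⁻¹ = a := inv_eq_of_mul_eq_one_right ((pow_two a).symm.trans ha.2)
        rw [Set.mem_setOf_eq, h]; exact ha }
  have hT : IsPGroup 2 T := fun g => ⟨1, Subtype.ext (by simpa using g.2.2)⟩
  have hmod := hT.card_modEq_card_fixedPoints V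
  rw [hcard] at hmod
  obtain ⟨w, hw, hw1⟩ : ∃ w ∈ MulAction.fixedPoints T V, w ≠ 1 := by
    by_contra hcon
    push Not at hcon
    have he : MulAction.fixedPoints T V = {1} := by
      refine Set.eq_singleton_iff_unique_mem.2 ⟨fun t => ?_, hcon⟩
      exact map_one (ρ (t : A₅))
    rw [he, Nat.card_coe_set_eq, Set.ncard_singleton] at hmod
    exact absurd hmod (by decide)
  have hwT : ∀ t : A₅, (t : Equiv.Perm (Fin 5)) i = i → t ^ 2 = 1 → ρ t w = w := fun t h1 h2 => hw ⟨t, h1, h2⟩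
  by_cases hex : ∃ d : A₅, d ^ 3 = 1 ∧ d ≠ 1 ∧ ρ d w = w
  · obtain ⟨d, hd, hd1, hdw⟩ := hex
    by_cases hdi : (d : Equiv.Perm (Fin 5)) i = i
    · refine ⟨w, hw1, fun g hgi => ?_⟩
      have hd2 : ρ (d ^ 2) w = w := by rw [pow_two, map_mul, MulAut.mul_apply, hdw, hdw]
      have key : ∀ e : A₅, ρ e w = w → (g * e) ^ 2 = 1 → (e : Equiv.Perm (Fin 5)) i = i → ρ g w = w := by
        intro e he h2 hei
        have := hwT (g * e) (by simp [hei, hgi]) h2
        rwa [map_mul, MulAut.mul_apply, he] at this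
      rcases stab_eq_four_mul_three i d g hd hd1 hdi hgi with h | h | h
      · exact key d hdw h hdi
      · exact key (d ^ 2) hd2 h (by simp [pow_two, hdi])
      · exact hwT g hgi h
    · obtain ⟨t, ht, hti, h5, h51⟩ := exists_five_of_three i d hd hdi
      refine absurd (fix_five hcard ρ hρ h5 h51 ?_) hw1
      rw [map_mul, MulAut.mul_apply, hdw, hwT t hti ht]
  · exfalso
    push Not at hex
    obtain ⟨d, -, hd, hd1, -, -, -, -, -⟩ := exists_three_pair
    obtain ⟨u, hu, hu1⟩ : ∃ u ∈ fixed (ρ d), u ≠ 1 := by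
      refine (Subgroup.bot_or_exists_ne_one _).resolve_left fun h => ?_
      have := not_natural_all hcard ρ hρ hn hd hd1
      rw [h, card_bot] at this
      omega
    obtain ⟨g, hg⟩ := transitive_of_no_three hcard ρ hρ hw1 hex hu1
    refine hex (g⁻¹ * d * g) ?_ ?_ ?_
    · rw [show g⁻¹ * d * g = g⁻¹ * d * g⁻¹⁻¹ by rw [inv_inv], conj_pow, hd]; group
    · intro h
      apply hd1
      calc d = g * (g⁻¹ * d * g) * g⁻¹ := by group
        _ = 1 := by rw [h]; group
    · rw [map_mul, map_mul, MulAut.mul_apply, MulAut.mul_apply, hg, mem_fixed.1 hu, ← hg, map_inv, MulAut.inv_apply_self]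

/-- The five special vectors of a module in which elements of order three have fixed points. -/
theorem exists_points (h2 : ∀ v : V, v * v = 1) (hn : ¬ IsNatural ρ) :
    ∃ v : Fin 5 → V, (∀ i, v i ≠ 1) ∧
      (∀ (g : A₅) i, ρ g (v i) = v ((g : Equiv.Perm (Fin 5)) i)) ∧
      (∀ i w, (∀ g : A₅, (g : Equiv.Perm (Fin 5)) i = i → ρ g w = w) → w = 1 ∨ w = v i) ∧
      (∀ i j, i ≠ j → v i ≠ v j) := by
  choose v hv1 hv using exists_fixed_stab hcard ρ hρ hn
  have hboth : ∀ i j w, i ≠ j → (∀ g : A₅, (g : Equiv.Perm (Fin 5)) i = i → ρ g w = w) →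
      (∀ g : A₅, (g : Equiv.Perm (Fin 5)) j = j → ρ g w = w) → w = 1 := by
    intro i j w hij hi hj
    obtain ⟨d, hd, hdj, hdi⟩ := exists_three_moving i j hij
    obtain ⟨t, -, hti, h5, h51⟩ := exists_five_of_three i d hd hdi
    exact fix_five hcard ρ hρ h5 h51 (by rw [map_mul, MulAut.mul_apply, hj d hdj, hi t hti])
  have huniq : ∀ i w, (∀ g : A₅, (g : Equiv.Perm (Fin 5)) i = i → ρ g w = w) → w = 1 ∨ w = v i := by
    intro i w hw
    obtain ⟨j, hji⟩ := exists_ne i
    obtain ⟨d, s, hd, hd1, hdi, hdj, -, -, -⟩ := exists_pair_data i j hji.symm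
    by_contra hcon
    push Not at hcon
    obtain ⟨hw1, hwa⟩ := hcon
    have hwa' : w * v i ≠ 1 := fun h => hwa (by
      calc w = w * (v i * v i) := by rw [h2, mul_one]
        _ = v i := by rw [← mul_assoc, h, one_mul])
    have hsub : ({1, w, v i, w * v i} : Set V) ⊆ (fixed (ρ d) : Set V) := by
      have hwd := hw d hdi
      have had := hv i d hdi
      rintro x (rfl | rfl | rfl | rfl)
      · exact one_mem _
      · exact hwd
      · exact had
      · exact mul_mem (mem_fixed.2 hwd) (mem_fixed.2 had)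
    have hc4 : ({1, w, v i, w * v i} : Set V).ncard = 4 := by
      rw [Set.ncard_insert_of_notMem (by simp [hw1.symm, (hv1 i).symm, hwa'.symm]) (Set.toFinite _),
        Set.ncard_insert_of_notMem (by simp [hwa, hv1 i]) (Set.toFinite _),
        Set.ncard_pair (by simp [hw1])]
    have heq := Set.eq_of_subset_of_ncard_le hsub (by
      rw [hc4, ← Nat.card_coe_set_eq]
      exact (not_natural_all hcard ρ hρ hn hd hd1).le) (Set.toFinite _)
    have hb : v j ∈ (fixed (ρ d) : Set V) := hv j d hdj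
    rw [← heq] at hb
    refine hv1 j (hboth i j _ hji.symm (fun g hg => ?_) (hv j))
    rcases hb with h | h | h | h <;> rw [h]
    · exact map_one _
    · exact hw g hg
    · exact hv i g hg
    · rw [map_mul, hw g hg, hv i g hg]
  refine ⟨v, hv1, fun g i => ?_, huniq, fun i j hij h => hv1 i (hboth i j _ hij (hv i) (h ▸ hv j))⟩
  rcases huniq ((g : Equiv.Perm (Fin 5)) i) (ρ g (v i)) fun x hx => by
      have hfix := hv i (g⁻¹ * x * g) (by simp [hx])
      rw [map_mul, map_mul, MulAut.mul_apply, MulAut.mul_apply, map_inv] at hfix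
      have := congrArg (ρ g) hfix
      rwa [MulAut.apply_inv_self] at this with h | h
  · exact absurd ((ρ g).map_eq_one_iff.1 h) (hv1 i)
  · exact h

end Module

end CfsgLib.RankFourAltFive
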