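import Cfsg.Agent.Lib.InvChar.RankFourAltFive.Facts
import Cfsg.Prelude.Def_CaseTheorems

/-!
# Elementary sections of order at most sixteen
-/

set_option autoImplicit false

open Subgroup

namespace CfsgLib.RankFourAltFive

/-- Every section all of whose squares are trivial has order at most sixteen. -/
def SecLE (G : Type*) [Group G] : Prop :=
  ∀ H K : Subgroup G, K ≤ H → (∀ h ∈ H, h * h ∈ K) → K.relIndex H ≤ 16

theorem secLE_of_sectional {X : Type*} [Group X] (h4 : Cfsg.SectionalPRankLE 2 4 X) : SecLE X := by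
  intro H K hKH hsq
  haveI : (K.subgroupOf H).Normal := ⟨fun k hk h => by
    rw [mem_subgroupOf] at hk ⊢
    have e : ((h * k * h⁻¹ : H) : X) = ((h : X) * k) * ((h : X) * k) * (k : X)⁻¹ * ((h : X) * h)⁻¹ := by
      simp only [Subgroup.coe_mul, Subgroup.coe_inv]; group
    rw [e]
    exact mul_mem (mul_mem (hsq _ (mul_mem h.2 (hKH hk))) (inv_mem hk)) (inv_mem (hsq _ h.2))⟩
  have h2 : ∀ a : H ⧸ K.subgroupOf H, a * a = 1 := fun a => by
    induction a using QuotientGroup.induction_on with
    | _ x => exact (QuotientGroup.eq_one_iff _).2 (mem_subgroupOf.2 (hsq _ x.2))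
  have hcomm : ∀ a b : H ⧸ K.subgroupOf H, a * b = b * a := fun a b => by
    have ha := inv_eq_of_mul_eq_one_right (h2 a)
    have hb := inv_eq_of_mul_eq_one_right (h2 b)
    have hab := inv_eq_of_mul_eq_one_right (h2 (a * b))
    rw [mul_inv_rev, ha, hb] at hab
    exact hab.symm
  have h := h4 H (K.subgroupOf H) ⊤ ⟨⟨fun a b => Subtype.ext (hcomm a.1 b.1)⟩⟩
    (fun a _ => by rw [pow_two]; exact h2 a)
  rw [card_top] at h
  exact h

theorem SecLE.comap {G Y : Type*} [Group G] [Group Y] (h : SecLE G) (f : Y →* G) (hf : Function.Injective f) :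
    SecLE Y := by
  intro H K hKH hsq
  rw [← relIndex_map_map_of_injective K H hf]
  refine h _ _ (map_mono hKH) ?_
  rintro _ ⟨x, hx, rfl⟩
  rw [← map_mul]
  exact mem_map_of_mem f (hsq x hx)

theorem SecLE.map {G Y : Type*} [Group G] [Group Y] (h : SecLE G) (f : G →* Y) (hf : Function.Surjective f) :
    SecLE Y := by
  intro H K hKH hsq
  have e := relIndex_comap (G := Y) (G' := G) (H := K) f (H.comap f)
  rw [map_comap_eq_self_of_surjective hf] at e
  rw [← e]
  refine h _ _ (comap_mono hKH) fun x hx => ?_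
  rw [mem_comap, map_mul]
  exact hsq _ hx

theorem SecLE.card_le {G : Type*} [Group G] (h : SecLE G) (H : Subgroup G) (h2 : ∀ x ∈ H, x * x = 1) :
    Nat.card H ≤ 16 := by
  have := h H ⊥ bot_le fun x hx => mem_bot.2 (h2 x hx)
  rwa [relIndex_bot_left] at this

/-- The subgroup of order at most two generated by an element whose square is trivial. -/
def pair {G : Type*} [Group G] (k : G) (h : k * k = 1) : Subgroup G where
  carrier := {x | x = 1 ∨ x = k}
  one_mem' := Or.inl rfl
  mul_mem' := fun {x y} hx hy => by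
    rcases hx with rfl | rfl <;> rcases hy with rfl | rfl <;> simp [h]
  inv_mem' := fun {x} hx => by
    rcases hx with rfl | rfl
    · simp
    · exact Or.inr (inv_eq_of_mul_eq_one_right h)

theorem mem_pair {G : Type*} [Group G] {k : G} {h : k * k = 1} {x : G} :
    x ∈ pair k h ↔ x = 1 ∨ x = k := Iff.rfl

theorem card_pair {G : Type*} [Group G] {k : G} {h : k * k = 1} (h1 : k ≠ 1) : Nat.card (pair k h) = 2 := by
  rw [show Nat.card (pair k h) = ({1, k} : Set G).ncard from rfl]
  exact Set.ncard_pair h1.symm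

theorem card_pair_le {G : Type*} [Group G] {k : G} {h : k * k = 1} : Nat.card (pair k h) ≤ 2 := by
  by_cases h1 : k = 1
  · rw [show Nat.card (pair k h) = ({1, k} : Set G).ncard from rfl, h1]
    simp
  · exact (card_pair h1).le

end CfsgLib.RankFourAltFive
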