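import Cfsg.Agent.Lib.InvChar.RankFourAltFive.Layer
import Cfsg.Agent.Lib.InvChar.RankFourAltFive.Facts3

/-!
# The square map of a layer
-/

set_option autoImplicit false
set_option linter.style.haveILetI false

open Subgroup

universe u

namespace CfsgLib.RankFourAltFive

local notation "A₅" => alternatingGroup (Fin 5)

variable {G : Type u} [Group G] [Finite G] {π : G →* A₅} {W : Subgroup G}

/-- A product formula for squares. -/
theorem square_mul {M : Type*} [Group M] (a b : M) (ha : ∀ x, Commute x (a * a))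
    (hb : ∀ x, Commute x (b * b)) (ha2 : a * a * (a * a) = 1) (hb2 : b * b * (b * b) = 1) :
    a * b * (a * b) * (a * a) * (b * b) = a⁻¹ * b⁻¹ * a * b := by
  calc a * b * (a * b) * (a * a) * (b * b)
      = a * b * (a * b) * (a * a)⁻¹ * (b * b)⁻¹ := by
        rw [inv_eq_of_mul_eq_one_right ha2, inv_eq_of_mul_eq_one_right hb2]
    _ = (b * b)⁻¹ * (a * b * (a * b) * (a * a)⁻¹) := ((hb _).inv_right).eq
    _ = ((b * b)⁻¹ * a) * (b * a * b) * (a * a)⁻¹ := by group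
    _ = (a * (b * b)⁻¹) * (b * a * b) * (a * a)⁻¹ := by rw [((hb a).inv_right).eq]
    _ = (a * b⁻¹ * a * b) * (a * a)⁻¹ := by group
    _ = (a * a)⁻¹ * (a * b⁻¹ * a * b) := ((ha _).inv_right).eq
    _ = a⁻¹ * b⁻¹ * a * b := by group

/-- A layer which is elementary and central in the kernel. -/
structure CentralLayer (π : G →* A₅) (W : Subgroup G) : Prop extends Layer π W where
  sq_one : ∀ w ∈ W, w * w = 1
  central : ∀ m ∈ π.ker, ∀ w ∈ W, m * w = w * m

theorem CentralLayer.square_data (L : CentralLayer π W) :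
    ∀ a ∈ π.ker, ∀ b ∈ π.ker, a * b * (a * b) * (a * a) * (b * b) = a⁻¹ * b⁻¹ * a * b ∧
      a⁻¹ * b⁻¹ * a * b ∈ W := by
  intro a ha b hb
  let a' : π.ker := ⟨a, ha⟩
  let b' : π.ker := ⟨b, hb⟩
  have h := square_mul a' b'
    (fun x => Subtype.ext (L.central _ x.2 _ (L.sq_mem a ha)))
    (fun x => Subtype.ext (L.central _ x.2 _ (L.sq_mem b hb)))
    (Subtype.ext (L.sq_one _ (L.sq_mem a ha))) (Subtype.ext (L.sq_one _ (L.sq_mem b hb)))
  have h' : a * b * (a * b) * (a * a) * (b * b) = a⁻¹ * b⁻¹ * a * b := congrArg Subtype.val h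
  refine ⟨h', h' ▸ mul_mem (mul_mem (L.sq_mem _ (mul_mem ha hb)) (L.sq_mem a ha)) (L.sq_mem b hb)⟩

/-- The module, the layer as a module, and the square map between them. -/
theorem CentralLayer.exists_square_map (L : CentralLayer π W) :
    ∃ (V : Type u) (_ : CommGroup V) (_ : Finite V) (ρ : A₅ →* MulAut V) (p : π.ker →* V)
      (U : Type u) (_ : CommGroup U) (_ : Finite U) (σ : A₅ →* MulAut U) (j : U →* G) (q : V → U),
      Function.Surjective p ∧ (∀ m, p m = 1 ↔ (m : G) ∈ W) ∧ (∀ v : V, v * v = 1) ∧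
      Nat.card V = 16 ∧ ρ ≠ 1 ∧ (∀ g m, ρ (π g) (p m) = p (MulAut.conjNormal g m)) ∧
      Function.Injective j ∧ (∀ x, x ∈ W ↔ ∃ u, j u = x) ∧ Nat.card U = Nat.card W ∧
      (∀ g u, j (σ (π g) u) = g * j u * g⁻¹) ∧ (∀ u : U, u * u = 1) ∧
      (∀ m, j (q (p m)) = (m : G) * m) ∧
      (∀ a b : π.ker, j (polar q (p a) (p b)) = (a : G)⁻¹ * (b : G)⁻¹ * a * b) ∧
      (∀ a b c : V, polar q (a * b) c = polar q a c * polar q b c) ∧
      (∀ a v, q (ρ a v) = σ a (q v)) := by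
  obtain ⟨V, iV, iF, ρ, p, hp, hp1, h2, hcard, hρ, heq⟩ := L.toLayer.exists_module
  haveI := L.normal
  obtain ⟨U, iU, iFU, σ, j, hj, hjW, hUcard, hσ⟩ := exists_central_action π L.surj W L.le L.central
  have hU2 : ∀ u : U, u * u = 1 := fun u => hj (by
    rw [map_mul, map_one, L.sq_one _ ((hjW _).2 ⟨u, rfl⟩)])
  have hsq : ∀ m : π.ker, ∃ u, j u = (m : G) * m := fun m => (hjW _).1 (L.sq_mem _ m.2)
  have hwd : ∀ a b : π.ker, p a = p b → (a : G) * a = (b : G) * b := by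
    intro a b h
    have hw : ((a⁻¹ * b : π.ker) : G) ∈ W := (hp1 _).1 (by rw [map_mul, map_inv, h, inv_mul_cancel])
    rw [Subgroup.coe_mul, Subgroup.coe_inv] at hw
    calc (a : G) * a = (a : G) * a * (((a : G)⁻¹ * b) * ((a : G)⁻¹ * b)) := by rw [L.sq_one _ hw, mul_one]
      _ = (a : G) * ((a : G) * ((a : G)⁻¹ * b)) * ((a : G)⁻¹ * b) := by group
      _ = (a : G) * (((a : G)⁻¹ * b) * a) * ((a : G)⁻¹ * b) := by rw [L.central _ a.2 _ hw]
      _ = (b : G) * b := by group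
  choose f hf using hsq
  let q : V → U := fun v => f (Function.surjInv hp v)
  have hq : ∀ m : π.ker, j (q (p m)) = (m : G) * m := fun m => by
    rw [hf]
    exact hwd _ _ (Function.surjInv_eq hp _)
  have hpol : ∀ a b : π.ker, j (polar q (p a) (p b)) = (a : G)⁻¹ * (b : G)⁻¹ * a * b := by
    intro a b
    unfold polar
    rw [map_mul, map_mul, ← map_mul p, hq, hq, hq, Subgroup.coe_mul, (L.square_data _ a.2 _ b.2).1]
  refine ⟨V, iV, iF, ρ, p, U, iU, iFU, σ, j, q, hp, hp1, h2, hcard, hρ, heq, hj, hjW, hUcard, hσ, hU2, hq,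
    hpol, fun x y z => ?_, fun s v => ?_⟩
  · obtain ⟨a, rfl⟩ := hp x
    obtain ⟨b, rfl⟩ := hp y
    obtain ⟨c, rfl⟩ := hp z
    apply hj
    rw [map_mul j, ← map_mul p, hpol, hpol, hpol, Subgroup.coe_mul, mul_inv_rev]
    have hc := (L.square_data _ a.2 _ c.2).2
    calc (b : G)⁻¹ * (a : G)⁻¹ * (c : G)⁻¹ * (a * b) * c
        = (b : G)⁻¹ * ((a : G)⁻¹ * (c : G)⁻¹ * a * c) * (c : G)⁻¹ * b * c := by group
      _ = ((a : G)⁻¹ * (c : G)⁻¹ * a * c) * (b : G)⁻¹ * (c : G)⁻¹ * b * c := by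
        rw [L.central _ (inv_mem b.2) _ hc]
      _ = (a : G)⁻¹ * (c : G)⁻¹ * a * c * ((b : G)⁻¹ * (c : G)⁻¹ * b * c) := by group
  · obtain ⟨g, rfl⟩ := L.surj s
    obtain ⟨m, rfl⟩ := hp v
    apply hj
    rw [heq, hσ, hq, hq, MulAut.conjNormal_apply]
    group

/-- A layer fixed by the whole group contains at most one nontrivial square; if there is one, five
elements with trivial squares have it as their common commutator. -/
theorem CentralLayer.trivial_case (L : CentralLayer π W) (hfix : ∀ g, ∀ w ∈ W, g * w = w * g) :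
    ∃ k ∈ W, (∀ m ∈ π.ker, m * m = 1 ∨ m * m = k) ∧
      (k ≠ 1 → ∃ v : Fin 5 → G, (∀ i, v i ∈ π.ker) ∧ (∀ i, v i * v i = 1) ∧
        (∀ i l, i ≠ l → v i * v l = v l * v i * k)) := by
  obtain ⟨V, iV, iF, ρ, p, U, iU, iFU, σ, j, q, hp, hp1, h2, hcard, hρ, heq, hj, hjW, -, hσ, hU2, hq,
    hpol, hbil, hqe⟩ := L.exists_square_map
  have hinv : ∀ s v, q (ρ s v) = q v := fun s v => by
    obtain ⟨g, rfl⟩ := L.surj s
    apply hj
    rw [hqe, hσ, hfix g _ ((hjW _).2 ⟨q v, rfl⟩), mul_inv_cancel_right]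
  obtain ⟨k, hk, hpts⟩ := trivial_target hcard h2 ρ hρ hU2 q hbil hinv
  refine ⟨j k, (hjW _).2 ⟨k, rfl⟩, fun m hm => ?_, fun hk1 => ?_⟩
  · rw [← hq ⟨m, hm⟩]
    rcases hk (p ⟨m, hm⟩) with h | h <;> rw [h]
    · exact Or.inl (map_one j)
    · exact Or.inr rfl
  · obtain ⟨v, -, hv1, hv⟩ := hpts fun h => hk1 (by rw [h, map_one])
    choose m hm using fun i => hp (v i)
    refine ⟨fun i => (m i : G), fun i => (m i).2, fun i => ?_, fun i l hil => ?_⟩
    · rw [← hq, hm, hv1, map_one]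
    · rw [← hv i l hil, ← hm i, ← hm l, hpol]
      group

end CfsgLib.RankFourAltFive
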